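import Mathlib

/-!
# Functors preserving K-injective complexes

A right adjoint of an exact functor preserves K-injective complexes. In particular restriction
functors, whose left adjoints are extensions by zero, do.
-/

set_option linter.style.haveILetI false

universe v u v₁ u₁ v₂ u₂

open CategoryTheory Limits Opposite

namespace Groth.Agent.KInj

section Adjoint

variable {A : Type u} [Category.{v} A] [Abelian A] {B : Type u₁} [Category.{v₁} B] [Abelian B]

/-- An additive left adjoint preserving monomorphisms is left exact. -/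
theorem preservesFiniteLimits_of_preservesMonomorphisms {w : B ⥤ A} {u : A ⥤ B} (adj : w ⊣ u)
    [w.Additive] [w.PreservesMonomorphisms] : PreservesFiniteLimits w := by
  haveI := adj.leftAdjoint_preservesColimits
  haveI : PreservesFiniteColimits w := inferInstance
  rw [w.preservesFiniteLimits_iff_forall_exact_map_and_mono]
  intro S hS
  haveI := hS.mono_f
  exact ⟨((w.preservesFiniteColimits_iff_forall_exact_map_and_epi).1 inferInstance S hS).1,
    inferInstance⟩

/-- A right adjoint of an exact functor preserves K-injective complexes. -/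
theorem isKInjective_map_of_adjunction {w : B ⥤ A} {u : A ⥤ B} (adj : w ⊣ u) [u.Additive]
    [w.PreservesMonomorphisms] (I : CochainComplex A ℤ) [I.IsKInjective] :
    CochainComplex.IsKInjective ((u.mapHomologicalComplex (ComplexShape.up ℤ)).obj I) := by
  haveI : w.Additive := adj.left_adjoint_additive
  haveI := preservesFiniteLimits_of_preservesMonomorphisms adj
  haveI := adj.leftAdjoint_preservesColimits
  haveI : PreservesFiniteColimits w := inferInstance
  refine ⟨fun {K} f hK => ?_⟩
  have hK' : ((w.mapHomologicalComplex (ComplexShape.up ℤ)).obj K).Acyclic := fun n => by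
    rw [HomologicalComplex.exactAt_iff] at *
    exact ((hK n).map w)
  let g : (w.mapHomologicalComplex (ComplexShape.up ℤ)).obj K ⟶ I :=
    (w.mapHomologicalComplex (ComplexShape.up ℤ)).map f ≫
      (NatTrans.mapHomologicalComplex adj.counit (ComplexShape.up ℤ)).app I
  obtain ⟨H⟩ := CochainComplex.IsKInjective.nonempty_homotopy_zero g hK'
  have hf : f = (show K ⟶ _ from
      (NatTrans.mapHomologicalComplex adj.unit (ComplexShape.up ℤ)).app K) ≫
      (u.mapHomologicalComplex (ComplexShape.up ℤ)).map g := by
    ext n
    simp only [g, HomologicalComplex.comp_f, Functor.mapHomologicalComplex_map_f,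
      NatTrans.mapHomologicalComplex_app_f, Functor.map_comp]
    refine Eq.trans ?_ ((Category.assoc _ _ _).trans rfl)
    refine Eq.trans ?_
      (congr_arg (· ≫ u.map (adj.counit.app (I.X n))) (adj.unit.naturality (f.f n)))
    exact ((Category.assoc _ _ _).trans ((congr_arg (f.f n ≫ ·)
      (adj.right_triangle_components (I.X n))).trans (Category.comp_id _))).symm
  exact ⟨((Homotopy.ofEq hf).trans ((u.mapHomotopy H).compLeft _)).trans
    (Homotopy.ofEq (by simp))⟩

end Adjoint

section Lan

variable {C : Type u₁} [Category.{v₁} C] {D : Type u₂} [Category.{v₂} D] (L : C ⥤ D)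

/-- Each category `CostructuredArrow L V` has a set of terminal objects of its connected
components. -/
def HasComponentTerminals : Prop :=
  ∀ V : D, ∃ (ι : Type (max u₁ v₂)) (o : ι → CostructuredArrow L V),
    ∀ x : CostructuredArrow L V, ∃! p : Σ i, (x ⟶ o i), True

variable {A : Type u} [Category.{v} A] [HasColimitsOfSize.{max u₁ v₂, max u₁ v₂} A]

theorem final_discrete {V : D} {ι : Type (max u₁ v₂)} (o : ι → CostructuredArrow L V)
    (h : ∀ x : CostructuredArrow L V, ∃! p : Σ i, (x ⟶ o i), True) :
    (Discrete.functor o).Final := by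
  refine ⟨fun x => ?_⟩
  obtain ⟨⟨i, g⟩, -, hp⟩ := h x
  haveI : Nonempty (StructuredArrow x (Discrete.functor o)) :=
    ⟨StructuredArrow.mk (S := x) (T := Discrete.functor o) (Y := (⟨i⟩ : Discrete ι)) g⟩
  refine zigzag_isConnected fun a b => ?_
  have key : ∀ a : StructuredArrow x (Discrete.functor o),
      a = StructuredArrow.mk (S := x) (T := Discrete.functor o) (Y := (⟨i⟩ : Discrete ι)) g := fun a => by
    have hsig := hp ⟨a.right.as, a.hom⟩ trivial
    obtain ⟨h1, h2⟩ := Sigma.mk.inj_iff.1 hsig
    obtain ⟨⟨⟩, ⟨j⟩, f⟩ := a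
    subst h1
    obtain rfl := eq_of_heq h2
    rfl
  rw [key a, key b]

theorem preservesMonomorphisms_lan (hL : HasComponentTerminals L) [∀ F : C ⥤ A, L.HasLeftKanExtension F]
    [∀ F : C ⥤ A, L.HasPointwiseLeftKanExtension F]
    [∀ ι : Type (max u₁ v₂), (colim : (Discrete ι ⥤ A) ⥤ A).PreservesMonomorphisms]
    [HasPullbacks A] : (L.lan : (C ⥤ A) ⥤ D ⥤ A).PreservesMonomorphisms := by
  refine ⟨fun {F G} φ _ => ?_⟩
  haveI : ∀ V, Mono ((L.lan.map φ).app V) := fun V => by
    obtain ⟨ι, o, ho⟩ := hL V
    haveI := final_discrete L o ho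
    let hc : ∀ F : C ⥤ A, IsColimit (((Functor.LeftExtension.mk (L.lan.obj F)
        (L.lanUnit.app F)).coconeAt V).whisker (Discrete.functor o)) := fun F =>
      (Functor.Final.isColimitWhiskerEquiv (Discrete.functor o) _).symm
        (Functor.isPointwiseLeftKanExtensionOfIsLeftKanExtension (L.lan.obj F) (L.lanUnit.app F) V)
    let ψ := Functor.whiskerLeft (Discrete.functor o ⋙ CostructuredArrow.proj L V) φ
    haveI : ∀ j, Mono (ψ.app j) := fun j => inferInstanceAs (Mono (φ.app _))
    haveI := NatTrans.mono_of_mono_app ψ
    refine colim.map_mono' ψ (hc F) (hc G) _ fun j => ?_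
    have h1 := NatTrans.congr_app (L.lanUnit.naturality φ) (o j.as).left
    have h2 := (L.lan.map φ).naturality (o j.as).hom
    dsimp at h1 h2
    show ((L.lanUnit.app F).app (o j.as).left ≫ (L.lan.obj F).map (o j.as).hom) ≫ (L.lan.map φ).app V =
      φ.app (o j.as).left ≫ (L.lanUnit.app G).app (o j.as).left ≫ (L.lan.obj G).map (o j.as).hom
    refine (Category.assoc _ _ _).trans ((congr_arg (_ ≫ ·) h2).trans ?_)
    exact ((Category.assoc _ _ _).symm.trans
      ((congr_arg (· ≫ (L.lan.obj G).map (o j.as).hom) h1.symm).trans (Category.assoc _ _ _)))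
  exact NatTrans.mono_of_mono_app _

end Lan

section Sheaf

variable {C : Type u₁} [SmallCategory C] {D : Type u₁} [SmallCategory D] (G : C ⥤ D)
  (J : GrothendieckTopology C) (K : GrothendieckTopology D) [Functor.IsContinuous G J K]
  [(G.sheafPushforwardContinuous AddCommGrpCat.{u₁} J K).Additive]

/-- Restriction of abelian sheaves along a functor whose costructured arrow categories have
component terminal objects preserves K-injective complexes. -/
theorem isKInjective_sheafPushforwardContinuous (hG : HasComponentTerminals G.op)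
    (I : CochainComplex (Sheaf K AddCommGrpCat.{u₁}) ℤ) [I.IsKInjective] :
    CochainComplex.IsKInjective (((G.sheafPushforwardContinuous AddCommGrpCat.{u₁} J K
      ).mapHomologicalComplex (ComplexShape.up ℤ)).obj I) := by
  haveI := preservesMonomorphisms_lan (A := AddCommGrpCat.{u₁}) G.op hG
  haveI : (Functor.sheafPullbackConstruction.sheafPullback G AddCommGrpCat.{u₁} J K
      ).PreservesMonomorphisms :=
    ⟨fun f _ => inferInstanceAs (Mono ((presheafToSheaf K _).map (G.op.lan.map f.hom)))⟩
  exact isKInjective_map_of_adjunction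
    (Functor.sheafPullbackConstruction.sheafAdjunctionContinuous G AddCommGrpCat.{u₁} J K) I

end Sheaf

end Groth.Agent.KInj
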