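import Groth.Agent.KInj.Derived

/-!
# The derived adjunction of an exact left adjoint, on homotopy categories
-/

set_option linter.style.haveILetI false
set_option linter.unusedSectionVars false

universe w w' v u v₁ u₁ v' u'

open CategoryTheory Limits

namespace Groth.Agent.KInj

variable {B : Type u} [Category.{v} B] [Abelian B] [HasDerivedCategory.{w} B]
  (hres : ∀ K : CochainComplex B ℤ, ∃ (I : CochainComplex B ℤ) (f : K ⟶ I),
    I.IsKInjective ∧ QuasiIso f)

include hres in
/-- Recognition of right derived functors on the homotopy category by K-injective complexes. -/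
theorem isRightDerivedFunctor_of_isIso_h {H : Type u'} [Category.{v'} H]
    {Φ : HomotopyCategory B (ComplexShape.up ℤ) ⥤ H} (RF : DerivedCategory B ⥤ H)
    (α : Φ ⟶ DerivedCategory.Qh ⋙ RF)
    (h : ∀ I : CochainComplex B ℤ, I.IsKInjective →
      IsIso (α.app ((HomotopyCategory.quotient B (ComplexShape.up ℤ)).obj I))) :
    RF.IsRightDerivedFunctor α (HomotopyCategory.quasiIso B (ComplexShape.up ℤ)) := by
  rw [(rightAdj hres ⋙ Φ).isRightDerivedFunctor_iff_isIso_rightDerivedDesc (derivedUnit hres Φ)
    (HomotopyCategory.quasiIso B (ComplexShape.up ℤ))]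
  haveI : ∀ X, IsIso (((rightAdj hres ⋙ Φ).rightDerivedDesc (derivedUnit hres Φ)
      (HomotopyCategory.quasiIso B (ComplexShape.up ℤ)) RF α).app X) := fun X => by
    haveI := isKInjective_model hres X
    haveI := h _ (isKInjective_model hres X)
    haveI := isIso_app_of_isKInjective hres _ _ (derivedUnit hres Φ) (model hres X)
    have hfac := (rightAdj hres ⋙ Φ).rightDerived_fac_app (derivedUnit hres Φ)
      (HomotopyCategory.quasiIso B (ComplexShape.up ℤ)) RF α
      ((HomotopyCategory.quotient B (ComplexShape.up ℤ)).obj (model hres X))
    haveI := IsIso.of_isIso_fac_left hfac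
    exact (NatTrans.isIso_app_iff_of_iso _ (modelIso hres X)).1 inferInstance
  exact NatIso.isIso_of_isIso_app _

variable {A : Type u₁} [Category.{v₁} A] [Abelian A]

/-- An adjunction of additive functors induces one on homotopy categories. -/
noncomputable def homotopyAdjunction {F : A ⥤ B} {G : B ⥤ A} (adj : F ⊣ G) [F.Additive]
    [G.Additive] :
    F.mapHomotopyCategory (ComplexShape.up ℤ) ⊣ G.mapHomotopyCategory (ComplexShape.up ℤ) :=
  Adjunction.mkOfUnitCounit
    { unit :=
        { app := fun X => (HomotopyCategory.quotient A (ComplexShape.up ℤ)).map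
            ({ f := fun i => adj.unit.app (X.as.X i)
               comm' := fun i j _ => (adj.unit.naturality (X.as.d i j)).symm } :
              X.as ⟶ (G.mapHomologicalComplex (ComplexShape.up ℤ)).obj
                ((F.mapHomologicalComplex (ComplexShape.up ℤ)).obj X.as))
          naturality := fun X Y g => by
            obtain ⟨f, rfl⟩ : ∃ f : X.as ⟶ Y.as,
                (HomotopyCategory.quotient A (ComplexShape.up ℤ)).map f = g :=
              (HomotopyCategory.quotient A (ComplexShape.up ℤ)).map_surjective g
            refine ((HomotopyCategory.quotient A (ComplexShape.up ℤ)).map_comp _ _).symm.trans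
              (Eq.trans ?_ ((HomotopyCategory.quotient A (ComplexShape.up ℤ)).map_comp _ _))
            congr 1
            ext i
            exact adj.unit.naturality (f.f i) }
      counit :=
        { app := fun X => (HomotopyCategory.quotient B (ComplexShape.up ℤ)).map
            ({ f := fun i => adj.counit.app (X.as.X i)
               comm' := fun i j _ => (adj.counit.naturality (X.as.d i j)).symm } :
              (F.mapHomologicalComplex (ComplexShape.up ℤ)).obj
                ((G.mapHomologicalComplex (ComplexShape.up ℤ)).obj X.as) ⟶ X.as)
          naturality := fun X Y g => by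
            obtain ⟨f, rfl⟩ : ∃ f : X.as ⟶ Y.as,
                (HomotopyCategory.quotient B (ComplexShape.up ℤ)).map f = g :=
              (HomotopyCategory.quotient B (ComplexShape.up ℤ)).map_surjective g
            refine ((HomotopyCategory.quotient B (ComplexShape.up ℤ)).map_comp _ _).symm.trans
              (Eq.trans ?_ ((HomotopyCategory.quotient B (ComplexShape.up ℤ)).map_comp _ _))
            congr 1
            ext i
            exact adj.counit.naturality (f.f i) }
      left_triangle := by
        ext X
        simp only [NatTrans.comp_app, Functor.whiskerRight_app, Functor.whiskerLeft_app,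
          Functor.associator_hom_app]
        refine (congr_arg (_ ≫ ·) (Category.id_comp _)).trans ?_
        refine ((HomotopyCategory.quotient B (ComplexShape.up ℤ)).map_comp _ _).symm.trans
          (Eq.trans ?_ ((HomotopyCategory.quotient B (ComplexShape.up ℤ)).map_id _))
        congr 1
        ext i
        exact adj.left_triangle_components (X.as.X i)
      right_triangle := by
        ext X
        simp only [NatTrans.comp_app, Functor.whiskerRight_app, Functor.whiskerLeft_app,
          Functor.associator_inv_app]
        refine (congr_arg (_ ≫ ·) (Category.id_comp _)).trans ?_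
        refine ((HomotopyCategory.quotient A (ComplexShape.up ℤ)).map_comp _ _).symm.trans
          (Eq.trans ?_ ((HomotopyCategory.quotient A (ComplexShape.up ℤ)).map_id _))
        congr 1
        ext i
        exact adj.right_triangle_components (X.as.X i) }

theorem isIso_homotopyAdjunction_counit_app {F : A ⥤ B} {G : B ⥤ A} (adj : F ⊣ G) [F.Additive]
    [G.Additive] [G.Full] [G.Faithful] (X : HomotopyCategory B (ComplexShape.up ℤ)) :
    IsIso ((homotopyAdjunction adj).counit.app X) := by
  haveI := adj.counit_isIso_of_R_fully_faithful
  let φ : (F.mapHomologicalComplex (ComplexShape.up ℤ)).obj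
      ((G.mapHomologicalComplex (ComplexShape.up ℤ)).obj X.as) ⟶ X.as :=
    { f := fun i => adj.counit.app (X.as.X i)
      comm' := fun i j _ => (adj.counit.naturality (X.as.d i j)).symm }
  haveI : ∀ i, IsIso (φ.f i) := fun i => inferInstanceAs (IsIso (adj.counit.app (X.as.X i)))
  haveI := HomologicalComplex.Hom.isIso_of_components φ
  exact inferInstanceAs (IsIso ((HomotopyCategory.quotient B (ComplexShape.up ℤ)).map φ))

include hres in
/-- The derived adjunction of an exact left adjoint, whose counit is an isomorphism if the right
adjoint is fully faithful. -/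
theorem exists_derived_adjunction [HasDerivedCategory.{w'} A] {F : A ⥤ B} {G : B ⥤ A} (adj : F ⊣ G)
    [F.Additive] [G.Additive] [PreservesFiniteLimits F] [PreservesFiniteColimits F]
    [G.Full] [G.Faithful]
    (RG : DerivedCategory B ⥤ DerivedCategory A)
    (α : G.mapHomotopyCategory (ComplexShape.up ℤ) ⋙ DerivedCategory.Qh ⟶ DerivedCategory.Qh ⋙ RG)
    [RG.IsRightDerivedFunctor α (HomotopyCategory.quasiIso B (ComplexShape.up ℤ))] :
    ∃ a : F.mapDerivedCategory ⊣ RG, IsIso a.counit := by
  let lf := F.mapDerivedCategoryFactorsh
  let W₁ := HomotopyCategory.quasiIso A (ComplexShape.up ℤ)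
  let W₂ := HomotopyCategory.quasiIso B (ComplexShape.up ℤ)
  haveI := Functor.isLeftDerivedFunctor_of_inverts (W := W₁) F.mapDerivedCategory lf
  haveI : (F.mapDerivedCategory ⋙ RG).IsLeftDerivedFunctor
      ((Functor.associator _ _ _).inv ≫ Functor.whiskerRight lf.hom RG) W₁ :=
    Functor.isLeftDerivedFunctor_of_inverts (W := W₁) (F.mapDerivedCategory ⋙ RG)
      ((Functor.associator _ _ _).symm ≪≫ Functor.isoWhiskerRight lf RG)
  haveI : (RG ⋙ F.mapDerivedCategory).IsRightDerivedFunctor
      (Functor.whiskerRight α F.mapDerivedCategory ≫ (Functor.associator _ _ _).hom) W₂ :=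
    isRightDerivedFunctor_of_isIso_h hres _ _ fun I hI => by
      haveI := hI
      haveI := isIso_app_of_isKInjective hres _ RG α I
      simp only [NatTrans.comp_app, Functor.associator_hom_app, Functor.whiskerRight_app]
      infer_instance
  let a := (homotopyAdjunction adj).derived W₁ W₂ lf.hom α
  refine ⟨a, ?_⟩
  haveI : ∀ X, IsIso (a.counit.app X) := fun X => by
    haveI := isKInjective_model hres X
    haveI := isIso_app_of_isKInjective hres _ RG α (model hres X)
    haveI := isIso_homotopyAdjunction_counit_app adj
      ((HomotopyCategory.quotient B (ComplexShape.up ℤ)).obj (model hres X))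
    have hfac := (homotopyAdjunction adj).derivedε_fac_app W₂ lf.hom α
      ((HomotopyCategory.quotient B (ComplexShape.up ℤ)).obj (model hres X))
    have h1 : IsIso (a.counit.app (DerivedCategory.Qh.obj
        ((HomotopyCategory.quotient B (ComplexShape.up ℤ)).obj (model hres X)))) :=
      IsIso.of_isIso_fac_left hfac
    exact (NatTrans.isIso_app_iff_of_iso a.counit (modelIso hres X)).1 h1
  exact NatIso.isIso_of_isIso_app _

end Groth.Agent.KInj
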