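import Mathlib

/-!
# Grothendieck abelian categories of presheaves
-/

universe v u

open CategoryTheory Limits

namespace Groth.Agent.KInj

theorem isGrothendieckAbelian_functor (C : Type u) [SmallCategory C] :
    IsGrothendieckAbelian.{u} (Cᵒᵖ ⥤ AddCommGrpCat.{u}) :=
  IsGrothendieckAbelian.of_equivalence (sheafBotEquivalence AddCommGrpCat.{u} (C := C))

theorem isGrothendieckAbelian_presheafOfModules {C : Type u} [SmallCategory C]
    (O : Cᵒᵖ ⥤ RingCat.{u}) : IsGrothendieckAbelian.{u} (PresheafOfModules.{u} O) := by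
  haveI := isGrothendieckAbelian_functor C
  haveI : ReflectsFiniteLimits (PresheafOfModules.toPresheaf O) :=
    ⟨fun J _ _ => reflectsLimitsOfShape_of_reflectsIsomorphisms⟩
  haveI : AB5OfSize.{u, u} (PresheafOfModules.{u} O) :=
    ⟨fun J _ _ => HasExactColimitsOfShape.domain_of_functor J (PresheafOfModules.toPresheaf O)⟩
  haveI : HasSeparator (PresheafOfModules.{u} O) :=
    ⟨⟨_, (isSeparator_sigma _).2 (PresheafOfModules.freeYoneda.isSeparating O)⟩⟩
  exact {}

end Groth.Agent.KInj
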