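import Groth.Agent.KInj.Derived

/-!
# Products and coproducts in the homotopy category and in the derived category
-/

set_option linter.style.haveILetI false

universe t w v u

open CategoryTheory Limits

namespace Groth.Agent.KInj

variable {V : Type u} [Category.{v} V] [Preadditive V] {T : Type t}

theorem homotopic_zero_of_coproduct [HasCoproductsOfShape T V]
    {K : T → CochainComplex V ℤ} {c : Cofan K} (hc : IsColimit c) {L : CochainComplex V ℤ}
    (h : c.pt ⟶ L) (H : ∀ t, Nonempty (Homotopy (c.inj t ≫ h) 0)) : Nonempty (Homotopy h 0) := by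
  let hE : ∀ i, IsColimit (Cofan.mk (f := fun t => (K t).X i) (c.pt.X i) fun t => (c.inj t).f i) :=
    fun i => isColimitCofanMkObjOfIsColimit (HomologicalComplex.eval V (ComplexShape.up ℤ) i) _ _
      (hc.ofIsoColimit (Cofan.ext (Iso.refl _) (by simp)))
  let H' : ∀ t, Homotopy (c.inj t ≫ h) 0 := fun t => (H t).some
  let hom : ∀ i j, c.pt.X i ⟶ L.X j := fun i j =>
    Cofan.IsColimit.desc (hE i) fun t => (H' t).hom i j
  have hhom : ∀ t i j, (c.inj t).f i ≫ hom i j = (H' t).hom i j := fun t i j =>
    Cofan.IsColimit.fac (hE i) _ t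
  refine ⟨{ hom := hom, zero := fun i j hij => ?_, comm := fun i => ?_ }⟩
  · refine Cofan.IsColimit.hom_ext (hE i) _ _ fun t => ?_
    exact (hhom t i j).trans (((H' t).zero i j hij).trans comp_zero.symm)
  · refine Cofan.IsColimit.hom_ext (hE i) _ _ fun t => ?_
    show (c.inj t).f i ≫ _ = (c.inj t).f i ≫ _
    have e := (H' t).comm i
    rw [HomologicalComplex.comp_f] at e
    rw [e, dNext_eq _ (show (ComplexShape.up ℤ).Rel i (i + 1) from rfl),
      dNext_eq _ (show (ComplexShape.up ℤ).Rel i (i + 1) from rfl),
      prevD_eq _ (show (ComplexShape.up ℤ).Rel (i - 1) i from by simp),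
      prevD_eq _ (show (ComplexShape.up ℤ).Rel (i - 1) i from by simp)]
    simp only [HomologicalComplex.zero_f, add_zero, Preadditive.comp_add,
      HomologicalComplex.Hom.comm_assoc, reassoc_of% (hhom t i (i - 1)), hhom]

theorem homotopic_zero_of_product [HasProductsOfShape T V]
    {L : T → CochainComplex V ℤ} {c : Fan L} (hc : IsLimit c) {K : CochainComplex V ℤ}
    (h : K ⟶ c.pt) (H : ∀ t, Nonempty (Homotopy (h ≫ c.proj t) 0)) : Nonempty (Homotopy h 0) := by
  let hE : ∀ i, IsLimit (Fan.mk (f := fun t => (L t).X i) (c.pt.X i) fun t => (c.proj t).f i) :=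
    fun i => isLimitFanMkObjOfIsLimit (HomologicalComplex.eval V (ComplexShape.up ℤ) i) _ _
      (hc.ofIsoLimit (Fan.ext (Iso.refl _) (by simp)))
  let H' : ∀ t, Homotopy (h ≫ c.proj t) 0 := fun t => (H t).some
  let hom : ∀ i j, K.X i ⟶ c.pt.X j := fun i j =>
    Fan.IsLimit.lift (hE j) fun t => (H' t).hom i j
  have hhom : ∀ t i j, hom i j ≫ (c.proj t).f j = (H' t).hom i j := fun t i j =>
    Fan.IsLimit.fac (hE j) _ t
  refine ⟨{ hom := hom, zero := fun i j hij => ?_, comm := fun i => ?_ }⟩
  · refine Fan.IsLimit.hom_ext (hE j) _ _ fun t => ?_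
    exact (hhom t i j).trans (((H' t).zero i j hij).trans zero_comp.symm)
  · refine Fan.IsLimit.hom_ext (hE i) _ _ fun t => ?_
    show _ ≫ (c.proj t).f i = _ ≫ (c.proj t).f i
    have e := (H' t).comm i
    rw [HomologicalComplex.comp_f] at e
    rw [e, dNext_eq _ (show (ComplexShape.up ℤ).Rel i (i + 1) from rfl),
      dNext_eq _ (show (ComplexShape.up ℤ).Rel i (i + 1) from rfl),
      prevD_eq _ (show (ComplexShape.up ℤ).Rel (i - 1) i from by simp),
      prevD_eq _ (show (ComplexShape.up ℤ).Rel (i - 1) i from by simp)]
    simp only [HomologicalComplex.zero_f, add_zero, Preadditive.add_comp, Category.assoc,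
      ← HomologicalComplex.Hom.comm, hhom]
    rw [← Category.assoc, hhom]

theorem hasCoproductsOfShape_homotopyCategory [HasCoproductsOfShape T V]
    [HasCoproductsOfShape T (CochainComplex V ℤ)] :
    HasCoproductsOfShape T (HomotopyCategory V (ComplexShape.up ℤ)) := by
  let q := HomotopyCategory.quotient V (ComplexShape.up ℤ)
  refine ⟨fun F => ?_⟩
  have hK : ∀ t, ∃ K, q.obj K = F.obj ⟨t⟩ := fun t => HomotopyCategory.quotient_obj_surjective _
  choose K hK using hK
  haveI : HasColimit (Discrete.functor fun t => q.obj (K t)) := by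
    refine ⟨⟨⟨Cofan.mk (q.obj (∐ K)) fun t => q.map (Sigma.ι K t),
      Cofan.IsColimit.mk _ (fun s => q.map (Sigma.desc fun t => (q.map_surjective (s.inj t)).choose))
        (fun s t => ?_) (fun s m hm => ?_)⟩⟩⟩
    · simp only [cofan_mk_inj]
      exact (q.map_comp _ _).symm.trans
        ((congr_arg q.map (Sigma.ι_desc _ _)).trans (q.map_surjective (s.inj t)).choose_spec)
    · obtain ⟨m, rfl⟩ := q.map_surjective m
      obtain ⟨H⟩ := homotopic_zero_of_coproduct (coproductIsCoproduct K)
        (m - Sigma.desc fun t => (q.map_surjective (s.inj t)).choose) fun t => by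
          refine ⟨HomotopyCategory.homotopyOfEq _ _ ?_⟩
          have h1 := hm t
          simp only [cofan_mk_inj] at h1
          rw [Functor.map_zero, cofan_mk_inj, Preadditive.comp_sub, Functor.map_sub, sub_eq_zero]
          exact (q.map_comp _ _).trans (h1.trans
            ((congr_arg q.map (Sigma.ι_desc (f := K)
              (fun t => (q.map_surjective (s.inj t)).choose) t)).trans
                (q.map_surjective (s.inj t)).choose_spec).symm)
      have := HomotopyCategory.eq_of_homotopy _ _ H
      rwa [Functor.map_zero, Functor.map_sub, sub_eq_zero] at this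
  exact hasColimit_of_iso (Discrete.natIso fun t => eqToIso (hK t.as).symm :
    F ≅ Discrete.functor fun t => q.obj (K t))

theorem hasProductsOfShape_homotopyCategory [HasProductsOfShape T V]
    [HasProductsOfShape T (CochainComplex V ℤ)] :
    HasProductsOfShape T (HomotopyCategory V (ComplexShape.up ℤ)) := by
  let q := HomotopyCategory.quotient V (ComplexShape.up ℤ)
  refine ⟨fun F => ?_⟩
  have hK : ∀ t, ∃ K, q.obj K = F.obj ⟨t⟩ := fun t => HomotopyCategory.quotient_obj_surjective _
  choose K hK using hK
  haveI : HasLimit (Discrete.functor fun t => q.obj (K t)) := by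
    refine ⟨⟨⟨Fan.mk (q.obj (∏ᶜ K)) fun t => q.map (Pi.π K t),
      Fan.IsLimit.mk _ (fun s => q.map (Pi.lift fun t => (q.map_surjective (s.proj t)).choose))
        (fun s t => ?_) (fun s m hm => ?_)⟩⟩⟩
    · simp only [fan_mk_proj]
      exact (q.map_comp _ _).symm.trans
        ((congr_arg q.map (Pi.lift_π _ _)).trans (q.map_surjective (s.proj t)).choose_spec)
    · obtain ⟨m, rfl⟩ := q.map_surjective m
      obtain ⟨H⟩ := homotopic_zero_of_product (productIsProduct K)
        (m - Pi.lift fun t => (q.map_surjective (s.proj t)).choose) fun t => by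
          refine ⟨HomotopyCategory.homotopyOfEq _ _ ?_⟩
          have h1 := hm t
          simp only [fan_mk_proj] at h1
          rw [Functor.map_zero, fan_mk_proj, Preadditive.sub_comp, Functor.map_sub, sub_eq_zero]
          exact (q.map_comp _ _).trans (h1.trans
            ((congr_arg q.map (Pi.lift_π (f := K)
              (fun t => (q.map_surjective (s.proj t)).choose) t)).trans
                (q.map_surjective (s.proj t)).choose_spec).symm)
      have := HomotopyCategory.eq_of_homotopy _ _ H
      rwa [Functor.map_zero, Functor.map_sub, sub_eq_zero] at this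
  exact hasLimit_of_iso (Discrete.natIso fun t => eqToIso (hK t.as) :
    Discrete.functor (fun t => q.obj (K t)) ≅ F)

section

variable {A : Type u} [Category.{v} A] [Abelian A] [HasDerivedCategory.{w} A]
  (hres : ∀ K : CochainComplex A ℤ, ∃ (I : CochainComplex A ℤ) (f : K ⟶ I),
    I.IsKInjective ∧ QuasiIso f)

/-- `D(A)` is a reflective subcategory of `K(A)`. -/
@[implicit_reducible]
noncomputable def reflective : Reflective (rightAdj hres) := by
  haveI : ∀ X, IsIso ((qhAdjunction hres).counit.app X) := fun X => by
    haveI : (DerivedCategory.Qh (C := A)).EssSurj :=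
      Localization.essSurj _ (HomotopyCategory.quasiIso A (ComplexShape.up ℤ))
    let e := modelIso hres X
    let K := (HomotopyCategory.quotient A (ComplexShape.up ℤ)).obj (model hres X)
    haveI := isIso_unit_app hres (model hres X)
    haveI : IsIso ((qhAdjunction hres).counit.app (DerivedCategory.Qh.obj K)) := by
      have h := (qhAdjunction hres).left_triangle_components K
      exact IsIso.of_isIso_fac_left h
    exact (NatTrans.isIso_app_iff_of_iso (qhAdjunction hres).counit e).1 inferInstance
  haveI := NatIso.isIso_of_isIso_app (qhAdjunction hres).counit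
  let ff := (qhAdjunction hres).fullyFaithfulROfIsIsoCounit
  haveI := ff.full
  haveI := ff.faithful
  exact { L := DerivedCategory.Qh, adj := qhAdjunction hres }

end

end Groth.Agent.KInj
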