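import Groth.Agent.KInj.Lifting

/-!
# Functorial K-injective resolutions and functorial injective embeddings
-/

set_option linter.style.haveILetI false

universe v u

open CategoryTheory Limits MorphismProperty
open scoped ZeroObject

namespace Groth.Agent.KInj

variable (A : Type u) [Category.{v} A] [Abelian A]

/-- The functor `M ↦ (M ⟶ 0)`. -/
@[simps]
noncomputable def toZero : A ⥤ Arrow A where
  obj M := Arrow.mk (0 : M ⟶ 0)
  map f := Arrow.homMk f (𝟙 _) (by simp)

variable [IsGrothendieckAbelian.{v} A]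

/-- In a Grothendieck abelian category, there are functorial injective embeddings. -/
theorem exists_functorial_injective_embedding :
    ∃ (J : A ⥤ A) (j : 𝟭 A ⟶ J), ∀ M, Injective (J.obj M) ∧ Mono (j.app M) := by
  let d := functorialFactorizationData (monomorphisms A) (monomorphisms A).rlp
  refine ⟨toZero A ⋙ d.Z, Functor.whiskerLeft (toZero A) d.i, fun M => ⟨?_, d.hi _⟩⟩
  rw [injective_iff_rlp_monomorphisms_zero]
  have := d.hp (Arrow.mk (0 : M ⟶ 0))
  rwa [(isZero_zero A).eq_of_tgt (d.p.app (Arrow.mk (0 : M ⟶ 0))) 0] at this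

/-- In a Grothendieck abelian category, there are functorial resolutions by K-injective complexes
of injective objects, which are degreewise monomorphisms. -/
theorem exists_functorial_resolution :
    ∃ (N : CochainComplex A ℤ ⥤ CochainComplex A ℤ) (j : 𝟭 _ ⟶ N),
      ∀ M, (N.obj M).IsKInjective ∧ (∀ n, Injective ((N.obj M).X n)) ∧ QuasiIso (j.app M) ∧
        ∀ n, Mono ((j.app M).f n) := by
  let d := functorialFactorizationData (genMonos (separator A)).rlp.llp (genMonos (separator A)).rlp
  refine ⟨toZero _ ⋙ d.Z, Functor.whiskerLeft (toZero _) d.i, fun M => ?_⟩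
  have hi : acyclicMono A (ComplexShape.up ℤ) (d.i.app (Arrow.mk (0 : M ⟶ 0))) := by
    refine transfinite_le (separator A) _ ?_
    rw [← llp_rlp_of_hasSmallObjectArgument]
    exact d.hi _
  have hp : (genMonos (separator A)).rlp
      (0 : d.Z.obj (Arrow.mk (0 : M ⟶ 0)) ⟶ 0) := by
    have := d.hp (Arrow.mk (0 : M ⟶ 0))
    rwa [(isZero_zero (CochainComplex A ℤ)).eq_of_tgt (d.p.app (Arrow.mk (0 : M ⟶ 0))) 0] at this
  obtain ⟨h₁, h₂⟩ := isKInjective_and_injective_of_liftingProperty _
    fun S hS h φ => exists_lift_of_orth (orth_of_rlp hp) hS h φ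
  haveI : Mono (d.i.app (Arrow.mk (0 : M ⟶ 0))) := hi.1
  exact ⟨h₁, h₂, hi.2, fun n =>
    inferInstanceAs (Mono ((d.i.app (Arrow.mk (0 : M ⟶ 0))).f n))⟩

end Groth.Agent.KInj
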