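import Groth.Agent.KInj.Functorial

/-!
# Right derived functors on the unbounded derived category

If every complex has a K-injective resolution, `Qh : K(A) ⥤ D(A)` has a right adjoint, so every
functor out of `K(A)` has a right derived functor, computed on K-injective complexes.
-/

set_option linter.style.haveILetI false

universe w v u v' u'

open CategoryTheory Limits

namespace Groth.Agent.KInj

/-- The extension along a left adjoint `L` is given by precomposition with the right adjoint. -/
theorem isLeftKanExtension_of_adjunction {C D H : Type*} [Category C] [Category D] [Category H]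
    {L : C ⥤ D} {R : D ⥤ C} (adj : L ⊣ R) (F : C ⥤ H) :
    (R ⋙ F).IsLeftKanExtension
      (F.leftUnitor.inv ≫ Functor.whiskerRight adj.unit F ≫ (Functor.associator L R F).hom) := by
  set α := F.leftUnitor.inv ≫ Functor.whiskerRight adj.unit F ≫ (Functor.associator L R F).hom
  have hα : ∀ X, α.app X = F.map (adj.unit.app X) := fun X => by simp [α]
  refine ⟨⟨IsInitial.ofUniqueHom (fun E => StructuredArrow.homMk
    { app := fun Y => E.hom.app (R.obj Y) ≫ E.right.map (adj.counit.app Y)
      naturality := fun Y Y' f => ?_ } ?_) fun E m => ?_⟩⟩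
  · have h1 : F.map (R.map f) ≫ E.hom.app (R.obj Y') =
        E.hom.app (R.obj Y) ≫ E.right.map (L.map (R.map f)) := E.hom.naturality (R.map f)
    show F.map (R.map f) ≫ E.hom.app (R.obj Y') ≫ E.right.map (adj.counit.app Y') =
      (E.hom.app (R.obj Y) ≫ E.right.map (adj.counit.app Y)) ≫ E.right.map f
    refine (Category.assoc _ _ _).symm.trans ((congr_arg (· ≫ E.right.map _) h1).trans ?_)
    refine (Category.assoc _ _ _).trans (Eq.trans ?_ (Category.assoc _ _ _).symm)
    refine congr_arg _ ?_
    exact (E.right.map_comp _ _).symm.trans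
      ((congr_arg E.right.map (adj.counit_naturality f)).trans (E.right.map_comp _ _))
  · ext X
    have h1 : F.map (adj.unit.app X) ≫ E.hom.app (R.obj (L.obj X)) =
        E.hom.app X ≫ E.right.map (L.map (adj.unit.app X)) := E.hom.naturality (adj.unit.app X)
    show α.app X ≫ E.hom.app (R.obj (L.obj X)) ≫ E.right.map (adj.counit.app (L.obj X)) =
      E.hom.app X
    rw [hα]
    refine (Category.assoc _ _ _).symm.trans ((congr_arg (· ≫ E.right.map _) h1).trans ?_)
    refine (Category.assoc _ _ _).trans ?_
    refine (congr_arg (E.hom.app X ≫ ·) ((E.right.map_comp _ _).symm.trans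
      ((congr_arg E.right.map (adj.left_triangle_components X)).trans (E.right.map_id _)))).trans ?_
    exact Category.comp_id _
  · apply StructuredArrow.hom_ext
    ext Y
    have hw : α.app (R.obj Y) ≫ m.right.app (L.obj (R.obj Y)) = E.hom.app (R.obj Y) :=
      NatTrans.congr_app (StructuredArrow.w m) (R.obj Y)
    have hn : F.map (R.map (adj.counit.app Y)) ≫ m.right.app Y =
        m.right.app (L.obj (R.obj Y)) ≫ E.right.map (adj.counit.app Y) :=
      m.right.naturality (adj.counit.app Y)
    show m.right.app Y = E.hom.app (R.obj Y) ≫ E.right.map (adj.counit.app Y)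
    rw [← hw, hα]
    refine Eq.trans ?_ (Category.assoc _ _ _).symm
    refine Eq.trans ?_ (congr_arg _ hn)
    refine Eq.trans ?_ (Category.assoc _ _ _)
    refine (Category.id_comp _).symm.trans (congr_arg (· ≫ m.right.app Y) ?_)
    exact (F.map_id _).symm.trans ((congr_arg F.map (adj.right_triangle_components Y).symm).trans
      (F.map_comp _ _))

variable {A : Type u} [Category.{v} A] [Abelian A] [HasDerivedCategory.{w} A]
  (hres : ∀ K : CochainComplex A ℤ, ∃ (I : CochainComplex A ℤ) (f : K ⟶ I),
    I.IsKInjective ∧ QuasiIso f)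

include hres in
theorem exists_kInjective_iso (X : DerivedCategory A) :
    ∃ I : CochainComplex A ℤ, I.IsKInjective ∧
      Nonempty (DerivedCategory.Qh.obj ((HomotopyCategory.quotient A (ComplexShape.up ℤ)).obj I)
        ≅ X) := by
  haveI : (DerivedCategory.Qh (C := A)).EssSurj :=
    Localization.essSurj _ (HomotopyCategory.quasiIso A (ComplexShape.up ℤ))
  obtain ⟨K, hK⟩ := HomotopyCategory.quotient_obj_surjective (DerivedCategory.Qh.objPreimage X)
  obtain ⟨I, f, hI, hf⟩ := hres K
  haveI := hf
  exact ⟨I, hI, ⟨(DerivedCategory.quotientCompQhIso A).app I ≪≫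
    (asIso (DerivedCategory.Q.map f)).symm ≪≫ ((DerivedCategory.quotientCompQhIso A).app K).symm ≪≫
    eqToIso (by rw [← hK]; rfl) ≪≫ DerivedCategory.Qh.objObjPreimageIso X⟩⟩

/-- A K-injective model of an object of the derived category. -/
noncomputable def model (X : DerivedCategory A) : CochainComplex A ℤ :=
  (exists_kInjective_iso hres X).choose

instance isKInjective_model (X : DerivedCategory A) : (model hres X).IsKInjective :=
  (exists_kInjective_iso hres X).choose_spec.1

/-- The isomorphism from the K-injective model. -/
noncomputable def modelIso (X : DerivedCategory A) :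
    DerivedCategory.Qh.obj ((HomotopyCategory.quotient A (ComplexShape.up ℤ)).obj (model hres X))
      ≅ X :=
  (exists_kInjective_iso hres X).choose_spec.2.some

/-- Morphisms into a K-injective model. -/
noncomputable def modelHomEquiv (K : HomotopyCategory A (ComplexShape.up ℤ))
    (X : DerivedCategory A) :
    (DerivedCategory.Qh.obj K ⟶ X) ≃
      (K ⟶ (HomotopyCategory.quotient A (ComplexShape.up ℤ)).obj (model hres X)) :=
  ((Equiv.ofBijective _ (CochainComplex.IsKInjective.Qh_map_bijective K (model hres X))).trans
    (modelIso hres X).homToEquiv).symm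

theorem modelHomEquiv_comp (K' K : HomotopyCategory A (ComplexShape.up ℤ))
    (X : DerivedCategory A) (f : K' ⟶ K) (g : DerivedCategory.Qh.obj K ⟶ X) :
    modelHomEquiv hres K' X (DerivedCategory.Qh.map f ≫ g) = f ≫ modelHomEquiv hres K X g := by
  apply (modelHomEquiv hres K' X).symm.injective
  rw [Equiv.symm_apply_apply]
  have h := (modelHomEquiv hres K X).symm_apply_apply g
  generalize modelHomEquiv hres K X g = g' at h ⊢
  subst h
  simp [modelHomEquiv, Iso.homToEquiv]

/-- The right adjoint of `Qh` given by K-injective models. -/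
noncomputable def rightAdj : DerivedCategory A ⥤ HomotopyCategory A (ComplexShape.up ℤ) :=
  Adjunction.rightAdjointOfEquiv (F := DerivedCategory.Qh) (modelHomEquiv hres)
    (fun K' K X f g => modelHomEquiv_comp hres K' K X f g)

/-- The adjunction between `Qh` and K-injective models. -/
noncomputable def qhAdjunction : DerivedCategory.Qh ⊣ rightAdj hres :=
  Adjunction.adjunctionOfEquivRight (modelHomEquiv hres)
    (fun K' K X f g => modelHomEquiv_comp hres K' K X f g)

theorem isIso_unit_app (I : CochainComplex A ℤ) [I.IsKInjective] :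
    IsIso ((qhAdjunction hres).unit.app ((HomotopyCategory.quotient A (ComplexShape.up ℤ)).obj I)) := by
  let X := (HomotopyCategory.quotient A (ComplexShape.up ℤ)).obj I
  obtain ⟨g, hg⟩ := (CochainComplex.IsKInjective.Qh_map_bijective
    ((rightAdj hres).obj (DerivedCategory.Qh.obj X)) I).surjective
    ((qhAdjunction hres).counit.app _)
  have h2 : (qhAdjunction hres).unit.app X ≫ g = 𝟙 X :=
    (CochainComplex.IsKInjective.Qh_map_bijective X I).injective (by
      rw [DerivedCategory.Qh.map_comp, hg, Adjunction.left_triangle_components,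
        DerivedCategory.Qh.map_id])
  refine ⟨g, h2, ?_⟩
  let e := (qhAdjunction hres).homEquiv ((rightAdj hres).obj (DerivedCategory.Qh.obj X))
    (DerivedCategory.Qh.obj X)
  have h3 : (qhAdjunction hres).counit.app (DerivedCategory.Qh.obj X) =
      DerivedCategory.Qh.map g := hg.symm
  calc g ≫ (qhAdjunction hres).unit.app X =
        (qhAdjunction hres).unit.app _ ≫ (rightAdj hres).map (DerivedCategory.Qh.map g) :=
        (qhAdjunction hres).unit.naturality g
    _ = 𝟙 _ := by rw [← h3, Adjunction.right_triangle_components]; rfl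

section

variable {H : Type u'} [Category.{v'} H] (F : HomotopyCategory A (ComplexShape.up ℤ) ⥤ H)

/-- The unit of the derived functor computed on K-injective models. -/
noncomputable def derivedUnit : F ⟶ DerivedCategory.Qh ⋙ (rightAdj hres ⋙ F) :=
  F.leftUnitor.inv ≫ Functor.whiskerRight (qhAdjunction hres).unit F ≫
    (Functor.associator _ _ _).hom

instance isRightDerivedFunctor :
    (rightAdj hres ⋙ F).IsRightDerivedFunctor (derivedUnit hres F)
      (HomotopyCategory.quasiIso A (ComplexShape.up ℤ)) :=
  ⟨isLeftKanExtension_of_adjunction (qhAdjunction hres) F⟩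

include hres in
theorem hasRightDerivedFunctor :
    F.HasRightDerivedFunctor (HomotopyCategory.quasiIso A (ComplexShape.up ℤ)) :=
  Functor.HasRightDerivedFunctor.mk' (rightAdj hres ⋙ F) (derivedUnit hres F)

include hres in
/-- Any right derived functor is computed on K-injective complexes. -/
theorem isIso_app_of_isKInjective (RF : DerivedCategory A ⥤ H)
    (α : F ⟶ DerivedCategory.Qh ⋙ RF)
    [RF.IsRightDerivedFunctor α (HomotopyCategory.quasiIso A (ComplexShape.up ℤ))]
    (I : CochainComplex A ℤ) [I.IsKInjective] :
    IsIso (α.app ((HomotopyCategory.quotient A (ComplexShape.up ℤ)).obj I)) := by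
  let e := Functor.rightDerivedUnique (rightAdj hres ⋙ F) RF (derivedUnit hres F) α
    (HomotopyCategory.quasiIso A (ComplexShape.up ℤ))
  have he := (rightAdj hres ⋙ F).rightDerived_fac_app (derivedUnit hres F)
    (HomotopyCategory.quasiIso A (ComplexShape.up ℤ)) RF α
    ((HomotopyCategory.quotient A (ComplexShape.up ℤ)).obj I)
  rw [← he]
  haveI := isIso_unit_app hres I
  haveI : IsIso ((derivedUnit hres F).app
      ((HomotopyCategory.quotient A (ComplexShape.up ℤ)).obj I)) := by
    simp only [derivedUnit, NatTrans.comp_app, Functor.leftUnitor_inv_app,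
      Functor.associator_hom_app, Functor.whiskerRight_app]
    infer_instance
  haveI : IsIso ((rightAdj hres ⋙ F).rightDerivedDesc (derivedUnit hres F)
      (HomotopyCategory.quasiIso A (ComplexShape.up ℤ)) RF α) :=
    ((rightAdj hres ⋙ F).isRightDerivedFunctor_iff_isIso_rightDerivedDesc (derivedUnit hres F)
      (HomotopyCategory.quasiIso A (ComplexShape.up ℤ)) RF α).1 ‹_›
  infer_instance

end

omit [HasDerivedCategory.{w} A] in
variable (A) in
theorem hres_of_isGrothendieckAbelian [IsGrothendieckAbelian.{v} A] (K : CochainComplex A ℤ) :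
    ∃ (I : CochainComplex A ℤ) (f : K ⟶ I), I.IsKInjective ∧ QuasiIso f := by
  obtain ⟨I, f, h1, h2, -⟩ := exists_isKInjective_resolution K
  exact ⟨I, f, h1, h2⟩

end Groth.Agent.KInj
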