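import Groth.Agent.KInj.Main

/-!
# K-injective complexes of injectives as the fibrant objects
-/

set_option linter.style.haveILetI false

universe v u

open CategoryTheory Limits CochainComplex HomComplex
open scoped ZeroObject

namespace Groth.Agent.KInj

variable {A : Type u} [Category.{v} A] [Abelian A]

theorem acyclic_double_id (B : A) (n : ℤ) :
    (HomologicalComplex.double (𝟙 B) (show (ComplexShape.up ℤ).Rel n (n + 1) from rfl)).Acyclic := by
  intro k
  have h : n ≠ n + 1 := by omega
  set D := HomologicalComplex.double (𝟙 B) (show (ComplexShape.up ℤ).Rel n (n + 1) from rfl)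
  haveI : IsIso (D.d n (n + 1)) := by
    rw [HomologicalComplex.double_d _ _ h]; infer_instance
  by_cases hk : k = n
  · subst hk
    rw [D.exactAt_iff' (k - 1) k (k + 1) (by simp) (by simp),
      ShortComplex.exact_iff_mono _ (HomologicalComplex.double_d_eq_zero₀ (𝟙 B)
        (show (ComplexShape.up ℤ).Rel k (k + 1) from rfl) (k - 1) k (by omega))]
    exact inferInstanceAs (Mono (D.d k (k + 1)))
  by_cases hk' : k = n + 1
  · subst hk'
    rw [D.exactAt_iff' n (n + 1) (n + 1 + 1) (by simp) (by simp),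
      ShortComplex.exact_iff_epi _ (HomologicalComplex.double_d_eq_zero₁ (𝟙 B)
        (show (ComplexShape.up ℤ).Rel n (n + 1) from rfl) (n + 1) (n + 1 + 1) (by omega))]
    exact inferInstanceAs (Epi (D.d n (n + 1)))
  exact ShortComplex.exact_of_isZero_X₂ _ (HomologicalComplex.isZero_double_X (𝟙 B)
    (show (ComplexShape.up ℤ).Rel n (n + 1) from rfl) k hk hk')

variable (I : CochainComplex A ℤ)

theorem liftingProperty_of_isKInjective [I.IsKInjective] [∀ n, Injective (I.X n)]
    {S : ShortComplex (CochainComplex A ℤ)} (hS : S.ShortExact) (h : S.X₃.Acyclic)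
    (φ : S.X₁ ⟶ I) : ∃ ψ : S.X₂ ⟶ I, S.f ≫ ψ = φ := by
  haveI := hS.mono_f
  have hmono : ∀ n, Mono (S.f.f n) := fun n => inferInstance
  have hinj : ∀ n, Injective (I.X n) := fun n => inferInstance
  let ext' : ∀ n, S.X₂.X n ⟶ I.X n := fun n =>
    @Injective.factorThru A _ (I.X n) (S.X₁.X n) (S.X₂.X n) (hinj n) (φ.f n) (S.f.f n) (hmono n)
  have sq : CommSq φ S.f (0 : I ⟶ 0) 0 := ⟨by simp⟩
  let hsq : ∀ n, (sq.map (HomologicalComplex.eval _ _ n)).LiftStruct := fun n =>
    { l := ext' n
      fac_left := @Injective.comp_factorThru A _ (I.X n) (S.X₁.X n) (S.X₂.X n) (hinj n) (φ.f n)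
        (S.f.f n) (hmono n)
      fac_right := by
        exact (((HomologicalComplex.eval A (ComplexShape.up ℤ) n).map_isZero
          (isZero_zero _)).eq_of_tgt _ _) }
  have hQ := hS.gIsCokernel
  have hK : IsLimit (KernelFork.ofι (f := (0 : I ⟶ (0 : CochainComplex A ℤ))) (𝟙 I) (by simp)) :=
    KernelFork.IsLimit.ofId _ rfl
  obtain ⟨α, hα⟩ := IsKInjective.eq_δ_of_cocycle (Lifting.cocycle₁ sq hsq hQ hK) h 0 (by simp)
  haveI := Lifting.hasLift sq hsq hQ hK α hα
  exact ⟨sq.lift, sq.fac_left⟩

theorem isKInjective_and_injective_of_liftingProperty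
    (hI : ∀ (S : ShortComplex (CochainComplex A ℤ)), S.ShortExact → S.X₃.Acyclic →
      ∀ φ : S.X₁ ⟶ I, ∃ ψ : S.X₂ ⟶ I, S.f ≫ ψ = φ) :
    I.IsKInjective ∧ ∀ n, Injective (I.X n) := by
  refine ⟨⟨fun {K} f hK => ?_⟩, fun n => ⟨fun {X Y} g a _ => ?_⟩⟩
  · let cone := CochainComplex.mappingCone (𝟙 K)
    let inr : K ⟶ cone := CochainComplex.mappingCone.inr (𝟙 K)
    have hc : ∀ j : ℤ, ∃ i, (ComplexShape.up ℤ).Rel i j := fun j => ⟨j - 1, by simp⟩
    haveI : Mono inr := by
      haveI : ∀ n, Mono (inr.f n) := fun n =>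
        haveI : Mono (inr.f n ≫ (CochainComplex.mappingCone.snd (𝟙 K)).v n n (add_zero n)) := by
          rw [show inr.f n = (CochainComplex.mappingCone.inr (𝟙 K)).f n from rfl,
            CochainComplex.mappingCone.inr_f_snd_v]
          infer_instance
        mono_of_mono (inr.f n) ((CochainComplex.mappingCone.snd (𝟙 K)).v n n (add_zero n))
      exact HomologicalComplex.mono_of_mono_f _ inferInstance
    let e : Homotopy (𝟙 cone) 0 :=
      CochainComplex.mappingCone.descHomotopy (𝟙 K) _ _ 0 (CochainComplex.mappingCone.inl (𝟙 K))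
        (by simp [cone]) (by simp [cone])
    have hcone : cone.Acyclic := fun k => by
      rw [HomologicalComplex.exactAt_iff_isZero_homology, IsZero.iff_id_eq_zero,
        ← HomologicalComplex.homologyMap_id, e.homologyMap_eq k]
      simp
    have hse : (ShortComplex.mk inr (cokernel.π inr) (cokernel.condition inr)).ShortExact :=
      { exact := ShortComplex.exact_cokernel inr }
    obtain ⟨ψ, hψ⟩ := hI _ hse (hse.acyclic_X₃ (quasiIso_of_acyclic inr hK hcone)) f
    have hh : Homotopy inr 0 := ((Homotopy.ofEq (Category.id_comp inr).symm).trans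
      (HomologicalComplex.homotopyCofiber.inrCompHomotopy (𝟙 K) hc))
    exact ⟨((Homotopy.ofEq hψ.symm).trans (hh.compRight ψ)).trans (Homotopy.ofEq zero_comp)⟩
  · haveI : Mono a := ‹_›
    have h : n ≠ n + 1 := by omega
    let r : (ComplexShape.up ℤ).Rel n (n + 1) := rfl
    let D₁ := HomologicalComplex.double (𝟙 X) r
    let D₂ := HomologicalComplex.double (𝟙 Y) r
    let m : D₁ ⟶ D₂ := HomologicalComplex.mkHomFromDouble r h
      (a ≫ (HomologicalComplex.doubleXIso₀ (𝟙 Y) r).inv)
      (a ≫ (HomologicalComplex.doubleXIso₁ (𝟙 Y) r h).inv)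
      (by simp [D₂, HomologicalComplex.double_d _ _ h])
      (fun k hk => by rw [HomologicalComplex.double_d_eq_zero₀ _ _ _ _ h.symm, comp_zero])
    haveI : Mono m := by
      have : ∀ k, Mono (m.f k) := fun k => by
        by_cases hk : k = n
        · subst hk
          rw [HomologicalComplex.mkHomFromDouble_f₀]
          infer_instance
        by_cases hk' : k = n + 1
        · subst hk'
          rw [HomologicalComplex.mkHomFromDouble_f₁]
          infer_instance
        exact ⟨fun _ _ _ => (HomologicalComplex.isZero_double_X _ _ _ hk hk').eq_of_tgt _ _⟩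
      exact HomologicalComplex.mono_of_mono_f _ this
    have hse : (ShortComplex.mk m (cokernel.π m) (cokernel.condition m)).ShortExact :=
      { exact := ShortComplex.exact_cokernel m }
    have hac := hse.acyclic_X₃
      (quasiIso_of_acyclic m (acyclic_double_id X n) (acyclic_double_id Y n))
    obtain ⟨ψ, hψ⟩ := hI _ hse hac
      (HomologicalComplex.mkHomFromDouble r h g (g ≫ I.d n (n + 1)) (by simp)
        (fun k _ => by simp))
    refine ⟨(HomologicalComplex.doubleXIso₀ (𝟙 Y) r).inv ≫ ψ.f n, ?_⟩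
    have := HomologicalComplex.congr_hom hψ n
    simp only [HomologicalComplex.comp_f, m, HomologicalComplex.mkHomFromDouble_f₀,
      Category.assoc] at this
    exact (cancel_epi _).1 this

theorem exists_isKInjective_resolution [IsGrothendieckAbelian.{v} A] (M : CochainComplex A ℤ) :
    ∃ (J : CochainComplex A ℤ) (f : M ⟶ J), J.IsKInjective ∧ QuasiIso f ∧ (∀ n, Mono (f.f n)) ∧
      ∀ n, Injective (J.X n) := by
  obtain ⟨J, f, hf, hq, hJ⟩ := exists_resolution M
  obtain ⟨h₁, h₂⟩ := isKInjective_and_injective_of_liftingProperty J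
    fun S hS h φ => exists_lift_of_orth hJ hS h φ
  haveI := hf
  exact ⟨J, f, h₁, hq, fun n => inferInstance, h₂⟩

end Groth.Agent.KInj
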