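import Groth.Agent.KInj.Cotorsion

/-!
# K-injective resolutions in Grothendieck abelian categories
-/

set_option linter.style.haveILetI false

universe v u

open CategoryTheory Limits MorphismProperty
open scoped ZeroObject

namespace Groth.Agent.KInj

section Splitting

variable {A : Type*} [Category A] [Abelian A]

/-- An object into which every extension by an acyclic complex splits lifts against monomorphisms
with acyclic cokernel. -/
theorem exists_lift_of_sections {C : Type u} [Category.{v} C] [Abelian C] {J : CochainComplex C ℤ}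
    (hJ : ∀ (S : ShortComplex (CochainComplex C ℤ)), S.ShortExact → (J ≅ S.X₁) → S.X₃.Acyclic →
      ∃ s : S.X₃ ⟶ S.X₂, s ≫ S.g = 𝟙 _)
    {S : ShortComplex (CochainComplex C ℤ)} (hS : S.ShortExact) (h : S.X₃.Acyclic)
    (φ : S.X₁ ⟶ J) : ∃ ψ : S.X₂ ⟶ J, S.f ≫ ψ = φ := by
  haveI := hS.mono_f
  haveI := hS.epi_g
  let inl : S.X₂ ⟶ pushout S.f φ := pushout.inl _ _
  let inr : J ⟶ pushout S.f φ := pushout.inr _ _
  let g' : pushout S.f φ ⟶ S.X₃ := pushout.desc S.g 0 (by simp)
  have w : inr ≫ g' = 0 := pushout.inr_desc _ _ _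
  haveI : Epi g' := epi_of_epi_fac (pushout.inl_desc S.g 0 (by simp))
  have hse : (ShortComplex.mk inr g' w).ShortExact :=
    { exact := ShortComplex.exact_of_g_is_cokernel _ (CokernelCofork.IsColimit.ofπ' _ _
        fun {W} k (hk : inr ≫ k = 0) =>
          have h1 : S.f ≫ inl ≫ k = 0 := by
            rw [pushout.condition_assoc, hk, comp_zero]
          ⟨hS.exact.desc _ h1, pushout.hom_ext
            (by rw [← Category.assoc, pushout.inl_desc]; exact hS.exact.g_desc _ h1)
            (by rw [← Category.assoc, pushout.inr_desc, zero_comp]; exact hk.symm)⟩) }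
  obtain ⟨s, hs⟩ := hJ _ hse (Iso.refl _) h
  let sp := ShortComplex.Splitting.ofExactOfSection _ hse.exact s hs hse.mono_f
  refine ⟨inl ≫ sp.r, ?_⟩
  rw [pushout.condition_assoc, sp.f_r, Category.comp_id]

end Splitting

variable {C : Type u} [Category.{v} C] [Abelian C] [IsGrothendieckAbelian.{v} C]

/-- A separator of the category of complexes. -/
noncomputable abbrev cxSep : CochainComplex C ℤ := separator (CochainComplex C ℤ)

/-- Epimorphisms from a fixed family of objects onto the small acyclic complexes. -/
abbrev GenIdx (G : C) : Type v :=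
  Σ I : SmallIdx G,
    {q : (∐ fun _ : Shrink.{v} (Subobject I.cx) => cxSep) ⟶ I.cx // Epi q}

/-- The generating monomorphisms with acyclic cokernel. -/
noncomputable def genMonos (G : C) : MorphismProperty (CochainComplex C ℤ) :=
  MorphismProperty.ofHoms (fun a : GenIdx G => kernel.ι a.2.1)

theorem genMonos_le (G : C) : genMonos G ≤ acyclicMono C (ComplexShape.up ℤ) := by
  rintro X Y _ ⟨⟨I, q, hq⟩⟩
  refine ⟨inferInstanceAs (Mono (kernel.ι q)), ?_⟩
  haveI := hq
  exact quasiIso_f_of_acyclic (S := ShortComplex.mk (kernel.ι q) q (kernel.condition q))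
    { exact := ShortComplex.exact_kernel q } I.acyclic

instance : IsStableUnderCoproducts.{v} (acyclicMono C (ComplexShape.up ℤ)) where
  isStableUnderCoproductsOfShape _ := isStableUnderColimitsOfShape_acyclicMono

instance : IsStableUnderFilteredColimits.{v, v} (acyclicMono C (ComplexShape.up ℤ)) where
  isStableUnderColimitsOfShape _ _ _ := isStableUnderColimitsOfShape_acyclicMono

theorem transfinite_le (G : C) :
    (transfiniteCompositions.{v} (coproducts.{v} (genMonos G)).pushouts).retracts ≤
      acyclicMono C (ComplexShape.up ℤ) := by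
  trans (transfiniteCompositions.{v}
    (coproducts.{v} (acyclicMono C (ComplexShape.up ℤ))).pushouts).retracts
  · apply retracts_monotone
    apply transfiniteCompositions_monotone
    apply pushouts_monotone
    apply coproducts_monotone
    exact genMonos_le G
  · simp

instance genMonos_small (G : C) : MorphismProperty.IsSmall.{v} (genMonos G) :=
  MorphismProperty.isSmall_ofHoms.{v} (fun a : GenIdx G => kernel.ι a.2.1)

instance (G : C) : HasSmallObjectArgument.{v} (genMonos G) := by
  obtain ⟨κ, hκ', hκ⟩ := HasCardinalLT.exists_regular_cardinal.{v}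
    (Σ a : GenIdx G, Shrink.{v} (Subobject (kernel a.2.1)))
  have : Fact κ.IsRegular := ⟨hκ'⟩
  have : Nonempty κ.ord.ToType := by simpa using hκ'.ne_zero
  have := WellFoundedLT.toOrderBot κ.ord.ToType
  exact ⟨κ, inferInstance, inferInstance,
    { preservesColimit {A B X Y} i hi f hf := by
        let hf' : (monomorphisms (CochainComplex C ℤ)).TransfiniteCompositionOfShape
            κ.ord.ToType f :=
          { toTransfiniteCompositionOfShape := hf.toTransfiniteCompositionOfShape
            map_mem j hj := by
              have := (hf.attachCells j hj).pushouts_coproducts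
              simp only [ofHoms_homFamily] at this
              refine (?_ : _ ≤ monomorphisms (CochainComplex C ℤ)) _ this
              simp only [pushouts_le_iff, coproducts_le_iff]
              exact fun _ _ g hg => (genMonos_le G g hg).1 }
        have (j j' : κ.ord.ToType) (φ : j ⟶ j') : Mono (hf'.F.map φ) := hf'.mem_map φ
        apply IsGrothendieckAbelian.preservesColimit_coyoneda_obj_of_mono (Y := hf'.F) (κ := κ)
        obtain ⟨a⟩ := hi
        exact hκ.of_injective (fun s => ⟨a, equivShrink _ s⟩)
          fun s t h => (equivShrink _).injective (eq_of_heq (Sigma.mk.inj_iff.1 h).2) }⟩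

theorem orth_of_rlp {G : C} {J : CochainComplex C ℤ} (hJ : (genMonos G).rlp (0 : J ⟶ 0)) :
    Orth G J := by
  intro P I j q w hse
  haveI : Mono j := hse.mono_f
  haveI : Epi q := hse.epi_g
  obtain ⟨g, hg⟩ := exists_cover_family (isSeparator_separator (CochainComplex C ℤ)) q
  let π : (∐ fun _ : Shrink.{v} (Subobject I.cx) => cxSep) ⟶ I.cx :=
    Sigma.desc fun i => g i ≫ q
  let g' : (∐ fun _ : Shrink.{v} (Subobject I.cx) => cxSep) ⟶ P := Sigma.desc g
  have hgq : g' ≫ q = π := Sigma.hom_ext _ _ fun i => by simp [g', π]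
  have hπ : Epi π := Preadditive.epi_of_cancel_zero _ fun h hh => hg h fun i => by
    simpa [π] using congr_arg (fun t => Sigma.ι (fun _ => cxSep) i ≫ t) hh
  haveI := hπ
  let t : kernel π ⟶ J := hse.exact.lift (kernel.ι π ≫ g')
    (by show (kernel.ι π ≫ g') ≫ q = 0; rw [Category.assoc, hgq, kernel.condition])
  have ht : t ≫ j = kernel.ι π ≫ g' := hse.exact.lift_f _ _
  have hmem : genMonos G (kernel.ι π) :=
    MorphismProperty.ofHoms.mk (f := fun a : GenIdx G => kernel.ι a.2.1) ⟨I, ⟨π, hπ⟩⟩
  have := hJ (kernel.ι π) hmem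
  have sq : CommSq t (kernel.ι π) (0 : J ⟶ 0) 0 := ⟨by simp⟩
  let l := sq.lift
  have hl : kernel.ι π ≫ l = t := sq.fac_left
  have hex : (ShortComplex.mk (kernel.ι π) π (kernel.condition π)).Exact :=
    ShortComplex.exact_kernel π
  have h0 : kernel.ι π ≫ (g' - l ≫ j) = 0 := by
    rw [Preadditive.comp_sub, reassoc_of% hl, ht, sub_self]
  refine ⟨hex.desc (g' - l ≫ j) h0, ?_⟩
  rw [← cancel_epi π, Category.comp_id, ← Category.assoc, hex.g_desc, Preadditive.sub_comp,
    Category.assoc, w, comp_zero, sub_zero, hgq]

theorem exists_resolution (M : CochainComplex C ℤ) :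
    ∃ (J : CochainComplex C ℤ) (f : M ⟶ J), Mono f ∧ QuasiIso f ∧
      Orth (separator C) J := by
  let fac := MorphismProperty.factorizationData (genMonos (separator C)).rlp.llp
    (genMonos (separator C)).rlp (0 : M ⟶ 0)
  have hi : acyclicMono C (ComplexShape.up ℤ) fac.i := by
    refine transfinite_le (separator C) _ ?_
    rw [← llp_rlp_of_hasSmallObjectArgument]
    exact fac.hi
  have hp : (genMonos (separator C)).rlp (0 : fac.Z ⟶ 0) := by
    have := fac.hp
    rwa [(isZero_zero (CochainComplex C ℤ)).eq_of_tgt fac.p 0] at this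
  exact ⟨fac.Z, fac.i, hi.1, hi.2, orth_of_rlp hp⟩

theorem exists_lift_of_orth {J : CochainComplex C ℤ} (hJ : Orth (separator C) J)
    {S : ShortComplex (CochainComplex C ℤ)} (hS : S.ShortExact) (h : S.X₃.Acyclic)
    (φ : S.X₁ ⟶ J) : ∃ ψ : S.X₂ ⟶ J, S.f ≫ ψ = φ :=
  exists_lift_of_sections (fun _ hS' e h' =>
    exists_section (isSeparator_separator C) hJ hS' e h') hS h φ

end Groth.Agent.KInj
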