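import Groth.Agent.KInj.Derived

/-!
# Right derived functors on complexes: recognition by K-injective complexes
-/

set_option linter.style.haveILetI false

universe w v u v' u'

open CategoryTheory Limits

namespace Groth.Agent.KInj

variable {A : Type u} [Category.{v} A] [Abelian A] [HasDerivedCategory.{w} A]
  (hres : ∀ K : CochainComplex A ℤ, ∃ (I : CochainComplex A ℤ) (f : K ⟶ I),
    I.IsKInjective ∧ QuasiIso f)
  {H : Type u'} [Category.{v'} H]
  {Φ : CochainComplex A ℤ ⥤ H} {Φ₀ : HomotopyCategory A (ComplexShape.up ℤ) ⥤ H}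
  (e : HomotopyCategory.quotient A (ComplexShape.up ℤ) ⋙ Φ₀ ≅ Φ)

/-- The unit of the derived functor of a functor on complexes factoring through `K(A)`. -/
@[simps]
noncomputable def derivedUnitCx : Φ ⟶ DerivedCategory.Q ⋙ (rightAdj hres ⋙ Φ₀) where
  app K := e.inv.app K ≫
    Φ₀.map ((qhAdjunction hres).unit.app ((HomotopyCategory.quotient A (ComplexShape.up ℤ)).obj K)) ≫
      Φ₀.map ((rightAdj hres).map ((DerivedCategory.quotientCompQhIso A).hom.app K))
  naturality K L f := by
    have h1 := (qhAdjunction hres).unit.naturality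
      ((HomotopyCategory.quotient A (ComplexShape.up ℤ)).map f)
    have h2 := (DerivedCategory.quotientCompQhIso A).hom.naturality f
    dsimp at h1 h2 ⊢
    simp only [← Category.assoc]
    rw [show Φ.map f ≫ e.inv.app L = e.inv.app K ≫
      Φ₀.map ((HomotopyCategory.quotient A (ComplexShape.up ℤ)).map f) from e.inv.naturality f]
    simp only [Category.assoc, ← Functor.map_comp]
    rw [reassoc_of% h1]
    simp only [← Functor.map_comp, h2]

instance isRightDerivedFunctorCx :
    (rightAdj hres ⋙ Φ₀).IsRightDerivedFunctor (derivedUnitCx hres e)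
      (HomologicalComplex.quasiIso A (ComplexShape.up ℤ)) := by
  haveI := Functor.IsRightDerivedFunctor.isLeftKanExtension (rightAdj hres ⋙ Φ₀)
    (derivedUnit hres Φ₀) (HomotopyCategory.quasiIso A (ComplexShape.up ℤ))
  let t : ∀ (G : DerivedCategory A ⥤ H) (_ : Φ ⟶ DerivedCategory.Q ⋙ G) (K : CochainComplex A ℤ),
      Φ₀.obj ((HomotopyCategory.quotient A (ComplexShape.up ℤ)).obj K) ⟶
        G.obj (DerivedCategory.Qh.obj ((HomotopyCategory.quotient A (ComplexShape.up ℤ)).obj K)) :=
    fun G β K => e.hom.app K ≫ β.app K ≫ G.map ((DerivedCategory.quotientCompQhIso A).inv.app K)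
  have hnat : ∀ (G : DerivedCategory A ⥤ H) (β : Φ ⟶ DerivedCategory.Q ⋙ G) {K L} (f : K ⟶ L),
      Φ₀.map ((HomotopyCategory.quotient A (ComplexShape.up ℤ)).map f) ≫ t G β L = t G β K ≫
        G.map (DerivedCategory.Qh.map ((HomotopyCategory.quotient A (ComplexShape.up ℤ)).map f)) := by
    intro G β K L f
    have h1 := e.hom.naturality f
    have h2 := β.naturality f
    have h3 := (DerivedCategory.quotientCompQhIso A).inv.naturality f
    dsimp [t] at h1 h2 h3 ⊢
    rw [reassoc_of% h1, reassoc_of% h2, Category.assoc, Category.assoc, ← G.map_comp,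
      ← G.map_comp, h3]
  let lift₀ : ∀ (G : DerivedCategory A ⥤ H) (_ : Φ ⟶ DerivedCategory.Q ⋙ G),
      Φ₀ ⟶ DerivedCategory.Qh ⋙ G := fun G β =>
    { app := fun X => t G β X.as
      naturality := fun X Y g => by
        obtain ⟨f, rfl⟩ : ∃ f : X.as ⟶ Y.as,
            (HomotopyCategory.quotient A (ComplexShape.up ℤ)).map f = g :=
          (HomotopyCategory.quotient A (ComplexShape.up ℤ)).map_surjective g
        exact hnat G β f }
  have hfac : ∀ (G : DerivedCategory A ⥤ H) (β : Φ ⟶ DerivedCategory.Q ⋙ G) (K : CochainComplex A ℤ),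
      Φ₀.map ((qhAdjunction hres).unit.app ((HomotopyCategory.quotient A (ComplexShape.up ℤ)).obj K)) ≫
        ((rightAdj hres ⋙ Φ₀).descOfIsLeftKanExtension (derivedUnit hres Φ₀) G (lift₀ G β)).app
          (DerivedCategory.Qh.obj ((HomotopyCategory.quotient A (ComplexShape.up ℤ)).obj K)) =
      t G β K := fun G β K => by
    have h := (rightAdj hres ⋙ Φ₀).descOfIsLeftKanExtension_fac_app (derivedUnit hres Φ₀) G
      (lift₀ G β) ((HomotopyCategory.quotient A (ComplexShape.up ℤ)).obj K)
    refine Eq.trans ?_ h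
    simp [derivedUnit]
  refine ⟨⟨⟨IsInitial.ofUniqueHom (fun E => StructuredArrow.homMk
    ((rightAdj hres ⋙ Φ₀).descOfIsLeftKanExtension (derivedUnit hres Φ₀) E.right
      (lift₀ E.right E.hom)) ?_) fun E m => ?_⟩⟩⟩
  · ext K
    show (e.inv.app K ≫ Φ₀.map _ ≫ Φ₀.map _) ≫ _ = E.hom.app K
    have hn := ((rightAdj hres ⋙ Φ₀).descOfIsLeftKanExtension (derivedUnit hres Φ₀) E.right
      (lift₀ E.right E.hom)).naturality ((DerivedCategory.quotientCompQhIso A).hom.app K)
    have h := hfac E.right E.hom K
    dsimp [t] at hn h ⊢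
    rw [Category.assoc, Category.assoc, hn, reassoc_of% h, ← E.right.map_comp,
      Iso.inv_hom_id_app]
    simp
  · apply StructuredArrow.hom_ext
    refine (rightAdj hres ⋙ Φ₀).hom_ext_of_isLeftKanExtension (derivedUnit hres Φ₀) _ _ ?_
    ext X
    obtain ⟨K, rfl⟩ := HomotopyCategory.quotient_obj_surjective X
    have hw : (e.inv.app K ≫ Φ₀.map ((qhAdjunction hres).unit.app
        ((HomotopyCategory.quotient A (ComplexShape.up ℤ)).obj K)) ≫
        Φ₀.map ((rightAdj hres).map ((DerivedCategory.quotientCompQhIso A).hom.app K))) ≫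
        m.right.app (DerivedCategory.Q.obj K) = E.hom.app K :=
      NatTrans.congr_app (StructuredArrow.w m) K
    have hn : Φ₀.map ((rightAdj hres).map ((DerivedCategory.quotientCompQhIso A).hom.app K)) ≫
        m.right.app (DerivedCategory.Q.obj K) = m.right.app _ ≫
          E.right.map ((DerivedCategory.quotientCompQhIso A).hom.app K) :=
      m.right.naturality ((DerivedCategory.quotientCompQhIso A).hom.app K)
    simp only [derivedUnit, NatTrans.comp_app, Functor.leftUnitor_inv_app,
      Functor.associator_hom_app, Functor.whiskerRight_app, Functor.whiskerLeft_app,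
      Category.id_comp, Category.comp_id]
    refine Eq.trans ?_ (hfac E.right E.hom K).symm
    dsimp [t] at hw hn ⊢
    rw [← hw]
    simp only [Category.assoc]
    rw [reassoc_of% hn]
    refine Eq.trans ?_ (e.hom_inv_id_app_assoc K _).symm
    refine congr_arg _ ?_
    refine Eq.trans ?_ (Category.assoc _ _ _).symm
    refine (Category.comp_id _).symm.trans (congr_arg _ ?_)
    exact ((E.right.map_comp _ _).symm.trans ((congr_arg E.right.map
      ((DerivedCategory.quotientCompQhIso A).hom_inv_id_app K)).trans (E.right.map_id _))).symm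

include hres in
/-- The unit of a right derived functor is an isomorphism on K-injective complexes. -/
theorem isIso_app_cx (e : HomotopyCategory.quotient A (ComplexShape.up ℤ) ⋙ Φ₀ ≅ Φ)
    (RF : DerivedCategory A ⥤ H) (α : Φ ⟶ DerivedCategory.Q ⋙ RF)
    [RF.IsRightDerivedFunctor α (HomologicalComplex.quasiIso A (ComplexShape.up ℤ))]
    (I : CochainComplex A ℤ) [I.IsKInjective] : IsIso (α.app I) := by
  rw [← (rightAdj hres ⋙ Φ₀).rightDerived_fac_app (derivedUnitCx hres e)
    (HomologicalComplex.quasiIso A (ComplexShape.up ℤ)) RF α I]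
  haveI := isIso_unit_app hres I
  haveI : IsIso ((derivedUnitCx hres e).app I) := by
    rw [derivedUnitCx_app]; infer_instance
  haveI : IsIso ((rightAdj hres ⋙ Φ₀).rightDerivedDesc (derivedUnitCx hres e)
      (HomologicalComplex.quasiIso A (ComplexShape.up ℤ)) RF α) :=
    ((rightAdj hres ⋙ Φ₀).isRightDerivedFunctor_iff_isIso_rightDerivedDesc (derivedUnitCx hres e)
      (HomologicalComplex.quasiIso A (ComplexShape.up ℤ)) RF α).1 ‹_›
  infer_instance

include hres in
/-- A natural transformation which is an isomorphism on K-injective complexes exhibits a right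
derived functor. -/
theorem isRightDerivedFunctor_of_isIso (e : HomotopyCategory.quotient A (ComplexShape.up ℤ) ⋙ Φ₀ ≅ Φ)
    (RF : DerivedCategory A ⥤ H) (α : Φ ⟶ DerivedCategory.Q ⋙ RF)
    (h : ∀ I : CochainComplex A ℤ, I.IsKInjective → IsIso (α.app I)) :
    RF.IsRightDerivedFunctor α (HomologicalComplex.quasiIso A (ComplexShape.up ℤ)) := by
  rw [(rightAdj hres ⋙ Φ₀).isRightDerivedFunctor_iff_isIso_rightDerivedDesc (derivedUnitCx hres e)
    (HomologicalComplex.quasiIso A (ComplexShape.up ℤ))]
  haveI : ∀ X, IsIso (((rightAdj hres ⋙ Φ₀).rightDerivedDesc (derivedUnitCx hres e)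
      (HomologicalComplex.quasiIso A (ComplexShape.up ℤ)) RF α).app X) := fun X => by
    let i := modelIso hres X
    haveI := isKInjective_model hres X
    haveI := h _ (isKInjective_model hres X)
    haveI : IsIso ((derivedUnitCx hres e).app (model hres X)) :=
      isIso_app_cx hres e _ _ _
    have hfac := (rightAdj hres ⋙ Φ₀).rightDerived_fac_app (derivedUnitCx hres e)
      (HomologicalComplex.quasiIso A (ComplexShape.up ℤ)) RF α (model hres X)
    haveI := IsIso.of_isIso_fac_left hfac
    exact (NatTrans.isIso_app_iff_of_iso _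
      (((DerivedCategory.quotientCompQhIso A).app (model hres X)).symm ≪≫ i)).1 inferInstance
  exact NatIso.isIso_of_isIso_app _

end Groth.Agent.KInj
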