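import Mathlib

/-!
# Acyclic complexes and colimits in Grothendieck abelian categories
-/

set_option linter.style.haveILetI false

universe w v u t

open CategoryTheory Limits

namespace Groth.Agent.KInj

variable {C : Type u} [Category.{v} C] [Abelian C] {J : Type t} [Category.{w} J]

theorem exact_of_pointwise (S : ShortComplex (J ⥤ C))
    (h : ∀ j, (S.map ((evaluation J C).obj j)).Exact) : S.Exact := by
  rw [ShortComplex.exact_iff_isZero_homology]
  exact Functor.isZero _ fun j =>
    (((S.map ((evaluation J C).obj j)).exact_iff_isZero_homology).1 (h j)).of_iso (S.mapHomologyIso ((evaluation J C).obj j)).symm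

variable [HasColimitsOfShape J C] [HasExactColimitsOfShape J C]
  {ι : Type*} {c : ComplexShape ι}

theorem acyclic_of_isColimit {K : J ⥤ HomologicalComplex C c} {cc : Cocone K}
    (hc : IsColimit cc) (h : ∀ j, (K.obj j).Acyclic) : cc.pt.Acyclic := by
  intro i
  rw [HomologicalComplex.exactAt_iff]
  have hE : ∀ k, IsColimit ((HomologicalComplex.eval C c k).mapCocone cc) :=
    fun k => isColimitOfPreserves _ hc
  let S : ShortComplex (J ⥤ C) :=
    ShortComplex.mk
      (Functor.whiskerLeft K
        ({ app := fun L => L.d (c.prev i) i, naturality := fun _ _ f => f.comm _ _ } :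
          HomologicalComplex.eval C c (c.prev i) ⟶ HomologicalComplex.eval C c i))
      (Functor.whiskerLeft K
        ({ app := fun L => L.d i (c.next i), naturality := fun _ _ f => f.comm _ _ } :
          HomologicalComplex.eval C c i ⟶ HomologicalComplex.eval C c (c.next i)))
      (by ext j; exact (K.obj j).d_comp_d _ _ _)
  exact colim.exact_mapShortComplex (S := S) (exact_of_pointwise S fun j => h j i) (hE _)
    (c₂ := (HomologicalComplex.eval C c i).mapCocone cc) (hE _)
    (c₃ := (HomologicalComplex.eval C c (c.next i)).mapCocone cc) (hE _)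
    (cc.pt.d _ _) (cc.pt.d _ _) (fun j => (cc.ι.app j).comm _ _) (fun j => (cc.ι.app j).comm _ _)

instance isClosedUnderColimitsOfShape_acyclic :
    ObjectProperty.IsClosedUnderColimitsOfShape
      (fun L : HomologicalComplex C c => L.Acyclic) J where
  colimitsOfShape_le := fun _ ⟨hX⟩ => acyclic_of_isColimit hX.isColimit hX.prop_diag_obj

theorem quasiIso_f_of_acyclic {S : ShortComplex (HomologicalComplex C c)} (hS : S.ShortExact)
    (h : S.X₃.Acyclic) : QuasiIso S.f := ⟨fun i => by
  rw [quasiIsoAt_iff_isIso_homologyMap]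
  have hz : ∀ j, IsZero (S.X₃.homology j) := fun j => (h j).isZero_homology
  haveI : Epi (HomologicalComplex.homologyMap S.f i) :=
    (hS.homology_exact₂ i).epi_f ((hz i).eq_of_tgt _ _)
  haveI : Mono (HomologicalComplex.homologyMap S.f i) := by
    by_cases hi : ∃ k, c.Rel k i
    · obtain ⟨k, hk⟩ := hi
      exact (hS.homology_exact₁ k i hk).mono_g ((hz k).eq_of_src _ _)
    · haveI := hS.mono_f
      exact HomologicalComplex.mono_homologyMap_of_mono_of_not_rel S.f i (by simpa using hi)
  exact isIso_of_mono_of_epi _⟩

theorem quasiIso_iff_acyclic_cokernel {X Y : HomologicalComplex C c} (f : X ⟶ Y) [Mono f] :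
    QuasiIso f ↔ (cokernel f).Acyclic := by
  have hS : (ShortComplex.mk f (cokernel.π f) (cokernel.condition f)).ShortExact :=
    { exact := ShortComplex.exact_cokernel f }
  refine ⟨fun h => hS.acyclic_X₃ h, quasiIso_f_of_acyclic hS⟩

variable (C c) in
/-- Monomorphisms of complexes with acyclic cokernel. -/
def acyclicMono : MorphismProperty (HomologicalComplex C c) :=
  MorphismProperty.monomorphisms _ ⊓ HomologicalComplex.quasiIso C c

instance : (acyclicMono C c).IsStableUnderRetracts :=
  inferInstanceAs (MorphismProperty.monomorphisms _ ⊓ HomologicalComplex.quasiIso C c).IsStableUnderRetracts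

instance : (acyclicMono C c).IsMultiplicative :=
  inferInstanceAs (MorphismProperty.monomorphisms _ ⊓ HomologicalComplex.quasiIso C c).IsMultiplicative

instance : (acyclicMono C c).RespectsIso :=
  inferInstanceAs (MorphismProperty.monomorphisms _ ⊓ HomologicalComplex.quasiIso C c).RespectsIso

theorem acyclicMono_iff {X Y : HomologicalComplex C c} (f : X ⟶ Y) :
    acyclicMono C c f ↔ Mono f ∧ (cokernel f).Acyclic :=
  ⟨fun ⟨h₁, h₂⟩ => by
      haveI : Mono f := h₁
      exact ⟨h₁, (quasiIso_iff_acyclic_cokernel f).1 h₂⟩,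
    fun ⟨h₁, h₂⟩ => ⟨h₁, (quasiIso_iff_acyclic_cokernel f).2 h₂⟩⟩

instance : (acyclicMono C c).IsStableUnderCobaseChange where
  of_isPushout {A A' B B' f g f' g'} sq hf := by
    rw [acyclicMono_iff] at hf ⊢
    obtain ⟨hf, hf'⟩ := hf
    haveI := hf
    refine ⟨MorphismProperty.of_isPushout (P := MorphismProperty.monomorphisms _) sq hf,
      fun i => (hf' i).of_iso ?_⟩
    haveI := isIso_cokernel_map_of_isPushout sq.flip
    exact asIso (cokernel.map f f' g g' sq.w.symm)

instance isStableUnderColimitsOfShape_acyclicMono :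
    (acyclicMono C c).IsStableUnderColimitsOfShape J where
  condition X₁ X₂ c₁ c₂ hc₁ hc₂ f hf φ hφ := by
    haveI : ∀ j, Mono (f.app j) := fun j => (hf j).1
    haveI := NatTrans.mono_of_mono_app f
    have hmono : Mono φ := colim.map_mono' f hc₁ hc₂ φ (by simp [hφ])
    have hS : ∀ j : J, ((ShortComplex.mk f (cokernel.π f) (cokernel.condition f)).map
        ((evaluation J _).obj j)).ShortExact := fun j =>
      ShortComplex.ShortExact.map_of_exact { exact := ShortComplex.exact_cokernel f } _
    have hQ : ∀ j, ((cokernel f).obj j).Acyclic := fun j => (hS j).acyclic_X₃ (hf j).2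
    let c₃ := colimit.cocone (cokernel f)
    let g : c₂.pt ⟶ colimit (cokernel f) :=
      hc₂.desc ⟨_, cokernel.π f ≫ (colimit.cocone (cokernel f)).ι⟩
    have hex := colim.exact_mapShortComplex
      (S := ShortComplex.mk f (cokernel.π f) (cokernel.condition f))
      (ShortComplex.exact_cokernel f) hc₁ (c₂ := c₂) hc₂ (c₃ := c₃) (colimit.isColimit _)
      φ g (by simp [hφ]) (fun j => hc₂.fac _ j)
    haveI : Epi g := colim.map_epi' (cokernel.π f) c₂ (colimit.isColimit _) g
      (fun j => hc₂.fac _ j)
    refine (show _ ∧ _ from ⟨hmono, ?_⟩)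
    have hse : (colim.mapShortComplex (ShortComplex.mk f (cokernel.π f) (cokernel.condition f))
        hc₁ c₂ c₃ φ g (by simp [hφ]) (fun j => hc₂.fac _ j)).ShortExact :=
      { exact := hex
        mono_f := hmono
        epi_g := ‹Epi g› }
    have hac := acyclic_of_isColimit (colimit.isColimit (cokernel f)) hQ
    exact quasiIso_f_of_acyclic hse hac

end Groth.Agent.KInj
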