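import Groth.Agent.KInj.Cover

/-!
# Small acyclic subcomplexes

In a Grothendieck abelian category, every nonzero acyclic cochain complex contains a nonzero
acyclic subcomplex belonging to a fixed small family.
-/

set_option linter.style.haveILetI false

universe v u

open CategoryTheory Limits

namespace Groth.Agent.KInj

variable {C : Type u} [Category.{v} C] [Abelian C] [IsGrothendieckAbelian.{v} C]

omit [IsGrothendieckAbelian.{v} C] in
theorem mono_cokernelDesc_kernelSubobject {X Y : C} (f : X ⟶ Y) :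
    Mono (cokernel.desc (kernelSubobject f).arrow f (kernelSubobject_arrow_comp f)) := by
  let e : cokernel (kernelSubobject f).arrow ≅ cokernel (kernel.ι f) :=
    cokernel.mapIso _ _ (kernelSubobjectIso f) (Iso.refl _) (by simp)
  have : cokernel.desc (kernelSubobject f).arrow f (kernelSubobject_arrow_comp f) =
      e.hom ≫ cokernel.desc (kernel.ι f) f (kernel.condition f) := by
    apply coequalizer.hom_ext
    simp [e]
  rw [this]
  haveI : Mono (cokernel.desc (kernel.ι f) f (kernel.condition f)) :=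
    inferInstanceAs (Mono (Abelian.factorThruCoimage f))
  infer_instance

variable (G : C)

/-- Codes for maps from `G` into a quotient of `∐_T G`. -/
abbrev HomCode (T : Type v) : Type v :=
  Σ K : Shrink.{v} (Subobject (∐ fun _ : T => G)), G ⟶ cokernel ((equivShrink _).symm K).arrow

/-- The index types for the iterative construction of a small acyclic subcomplex. -/
noncomputable def Lam : ℕ → Type v
  | 0 => PUnit
  | k + 1 => Lam k ⊕ (Lam k ⊕ (HomCode G (Lam k) × Shrink.{v} (Subobject G)))

/-- The index type of the generators of a small acyclic subcomplex. -/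
abbrev LamInf : Type v := Σ k : ℕ, Lam G k

/-- A small complex: each term is a quotient of `∐_{LamInf} G`. -/
structure SmallIdx : Type v where
  K : ℤ → Shrink.{v} (Subobject (∐ fun _ : LamInf G => G))
  d : ∀ i j, cokernel ((equivShrink _).symm (K i)).arrow ⟶ cokernel ((equivShrink _).symm (K j)).arrow
  shape : ∀ i j, ¬ (ComplexShape.up ℤ).Rel i j → d i j = 0
  d_comp_d' : ∀ i j k, (ComplexShape.up ℤ).Rel i j → (ComplexShape.up ℤ).Rel j k →
    d i j ≫ d j k = 0
  acyclic : HomologicalComplex.Acyclic ({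
    X := fun i => cokernel ((equivShrink _).symm (K i)).arrow
    d := d
    shape := shape
    d_comp_d' := d_comp_d' } : CochainComplex C ℤ)

/-- The complex attached to a `SmallIdx`. -/
noncomputable def SmallIdx.cx {G : C} (I : SmallIdx G) : CochainComplex C ℤ where
  X i := cokernel ((equivShrink _).symm (I.K i)).arrow
  d := I.d
  shape := I.shape
  d_comp_d' := I.d_comp_d'

section

variable {G} (hG : IsSeparator G) (M : CochainComplex C ℤ)

include hG in
theorem exists_pre (hM : M.Acyclic) (n : ℤ) (z : G ⟶ M.X (n + 1)) :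
    ∃ (s : Shrink.{v} (Subobject G) → (G ⟶ M.X n)) (φ : Shrink.{v} (Subobject G) → (G ⟶ G)),
      z ≫ M.d (n + 1) (n + 1 + 1) = 0 →
        (∀ j, s j ≫ M.d n (n + 1) = φ j ≫ z) ∧
          (∀ {W : C} (h : G ⟶ W), (∀ j, φ j ≫ h = 0) → h = 0) := by
  by_cases hz : z ≫ M.d (n + 1) (n + 1 + 1) = 0
  · have hex := (M.exactAt_iff' n (n + 1) (n + 1 + 1) (by simp) (by simp)).1 (hM (n + 1))
    obtain ⟨A, π, hπ, y, hy⟩ := hex.exact_up_to_refinements z hz
    obtain ⟨g, hg⟩ := exists_cover_family hG π
    refine ⟨fun j => g j ≫ y, fun j => g j ≫ π, fun _ => ⟨fun j => ?_, fun {W} h hh => hg h ?_⟩⟩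
    · show (g j ≫ y) ≫ M.d n (n + 1) = (g j ≫ π) ≫ z
      exact (Category.assoc _ _ _).trans
        ((congr_arg (g j ≫ ·) hy.symm).trans (Category.assoc _ _ _).symm)
    · exact fun j => by simpa using hh j
  · exact ⟨fun _ => 0, fun _ => 0, fun h => (hz h).elim⟩

variable (hM : M.Acyclic)

open scoped Classical in
/-- The map `G ⟶ M.X n` decoded from a code. -/
noncomputable def decode {T : Type v} {n : ℤ} (s : T → (G ⟶ M.X n)) (c : HomCode G T) :
    G ⟶ M.X n :=
  if h : ((equivShrink _).symm c.1).arrow ≫ Sigma.desc s = 0 then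
    c.2 ≫ cokernel.desc _ (Sigma.desc s) h
  else 0

/-- The generators of the small acyclic subcomplex. -/
noncomputable def gen (m : ℤ) (x : G ⟶ M.X m) : (k : ℕ) → (n : ℤ) → Lam G k → (G ⟶ M.X n)
  | 0, n, _ => if h : m = n then x ≫ eqToHom (by rw [h]) else 0
  | k + 1, n, Sum.inl a => gen m x k n a
  | k + 1, n, Sum.inr (Sum.inl a) => gen m x k (n - 1) a ≫ M.d (n - 1) n
  | k + 1, n, Sum.inr (Sum.inr c) =>
      (exists_pre hG M hM n (decode M (gen m x k (n + 1)) c.1)).choose c.2

theorem gen_succ_d (m : ℤ) (x : G ⟶ M.X m) (k : ℕ) (i j : ℤ) (hij : i + 1 = j) (a : Lam G k) :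
    gen hG M hM m x (k + 1) j (Sum.inr (Sum.inl a)) = gen hG M hM m x k i a ≫ M.d i j := by
  obtain rfl : i = j - 1 := by omega
  rfl

include hG hM in
/-- Every nonzero acyclic complex contains a nonzero member of the small family. -/
theorem exists_small_acyclic {m : ℤ} (hm : ¬ IsZero (M.X m)) :
    ∃ (I : SmallIdx G) (e : I.cx ⟶ M), Mono e ∧ e ≠ 0 := by
  obtain ⟨x, hx⟩ : ∃ x : G ⟶ M.X m, x ≠ 0 := by
    by_contra hh
    push Not at hh
    exact hm ((IsZero.iff_id_eq_zero _).2 (eq_zero_of_cover hG _ fun a => by simp [hh a]))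
  let s := gen hG M hM m x
  let dsc : ∀ n : ℤ, (∐ fun _ : LamInf G => G) ⟶ M.X n := fun n =>
    Sigma.desc fun p => s p.1 n p.2
  let K : ℤ → Shrink.{v} (Subobject (∐ fun _ : LamInf G => G)) := fun n =>
    equivShrink _ (kernelSubobject (dsc n))
  let Q : ℤ → C := fun n => cokernel ((equivShrink _).symm (K n)).arrow
  have hK : ∀ n, (equivShrink _).symm (K n) = kernelSubobject (dsc n) :=
    fun n => Equiv.symm_apply_apply _ _
  have hK0 : ∀ n, ((equivShrink _).symm (K n)).arrow ≫ dsc n = 0 := fun n => by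
    rw [hK n, kernelSubobject_arrow_comp]
  let q : ∀ n, Q n ⟶ M.X n := fun n => cokernel.desc _ (dsc n) (hK0 n)
  have hq : ∀ n, Mono (q n) := fun n => by
    have key : ∀ S : Subobject (∐ fun _ : LamInf G => G), S = kernelSubobject (dsc n) →
        ∀ h0 : S.arrow ≫ dsc n = 0, Mono (cokernel.desc S.arrow (dsc n) h0) := by
      rintro _ rfl _
      exact mono_cokernelDesc_kernelSubobject _
    exact key _ (hK n) (hK0 n)
  let proj : ∀ n, (∐ fun _ : LamInf G => G) ⟶ Q n := fun n => cokernel.π _
  have hproj : ∀ n, proj n ≫ q n = dsc n := fun n => cokernel.π_desc _ _ _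
  -- the differential
  have hd : ∀ i j, ∃ d : Q i ⟶ Q j, d ≫ q j = q i ≫ M.d i j := by
    intro i j
    by_cases hij : i + 1 = j
    · let t : (∐ fun _ : LamInf G => G) ⟶ Q j :=
        Sigma.desc (fun p : LamInf G =>
          Sigma.ι (fun _ : LamInf G => G) (⟨p.1 + 1, Sum.inr (Sum.inl p.2)⟩ : LamInf G) ≫ proj j)
      have ht : t ≫ q j = dsc i ≫ M.d i j := by
        refine Sigma.hom_ext _ _ fun p => ?_
        simp only [t, dsc, Sigma.ι_desc_assoc, Category.assoc, hproj]
        exact (Sigma.ι_desc _ _).trans (gen_succ_d hG M hM m x p.1 i j hij p.2)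
      haveI := hq j
      refine ⟨cokernel.desc _ t (by rw [← cancel_mono (q j), Category.assoc, ht,
        reassoc_of% (hK0 i), zero_comp, zero_comp]), ?_⟩
      apply coequalizer.hom_ext
      simp only [cokernel.π_desc_assoc, ht, q]
    · exact ⟨0, by rw [M.shape i j hij, zero_comp, comp_zero]⟩
  choose d hd using hd
  have hshape : ∀ i j, ¬ (ComplexShape.up ℤ).Rel i j → d i j = 0 := fun i j hij => by
    haveI := hq j
    rw [← cancel_mono (q j), hd, M.shape i j hij, comp_zero, zero_comp]
  have hdd : ∀ i j k, (ComplexShape.up ℤ).Rel i j → (ComplexShape.up ℤ).Rel j k →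
      d i j ≫ d j k = 0 := fun i j k _ _ => by
    haveI := hq k
    rw [← cancel_mono (q k), Category.assoc, hd, ← Category.assoc, hd, Category.assoc,
      M.d_comp_d, comp_zero, zero_comp]
  -- acyclicity
  have hac : HomologicalComplex.Acyclic ({
      X := Q, d := d, shape := hshape, d_comp_d' := hdd } : CochainComplex C ℤ) := by
    intro n'
    obtain ⟨n, rfl⟩ : ∃ n, n' = n + 1 := ⟨n' - 1, by omega⟩
    rw [HomologicalComplex.exactAt_iff' _ n (n + 1) (n + 1 + 1) (by simp) (by simp),
      ShortComplex.exact_iff_exact_up_to_refinements]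
    intro A z hz
    change A ⟶ Q (n + 1) at z
    change z ≫ d (n + 1) (n + 1 + 1) = 0 at hz
    let T := {a : G ⟶ A // ∃ y : G ⟶ Q n, a ≫ z = y ≫ d n (n + 1)}
    let π : (∐ fun _ : T => G) ⟶ A := Sigma.desc (fun a => a.1)
    let y : (∐ fun _ : T => G) ⟶ Q n := Sigma.desc (fun a => a.2.choose)
    have hy : π ≫ z = y ≫ d n (n + 1) := Sigma.hom_ext _ _ fun a => by
      simp only [π, y, Sigma.ι_desc_assoc]
      exact a.2.choose_spec
    refine ⟨_, π, ?_, y, hy⟩
    refine Preadditive.epi_of_cancel_zero _ fun {W} h hh => ?_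
    have hT : ∀ a : G ⟶ A, (∃ y : G ⟶ Q n, a ≫ z = y ≫ d n (n + 1)) → a ≫ h = 0 := fun a ha => by
      simpa [π] using congr_arg (fun f => Sigma.ι (fun _ : T => G) ⟨a, ha⟩ ≫ f) hh
    -- the exhaustion of `Q (n+1)`
    let part : ∀ k : ℕ, (∐ fun _ : Lam G k => G) ⟶ Q (n + 1) := fun k =>
      Sigma.desc (fun a => Sigma.ι (fun _ : LamInf G => G) (⟨k, a⟩ : LamInf G) ≫ proj (n + 1))
    have hpart : ∀ k, part k ≫ q (n + 1) = Sigma.desc (s k (n + 1)) := fun k =>
      Sigma.hom_ext _ _ fun a => by simp [part, hproj, dsc]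
    haveI := hq (n + 1)
    have hmono : ∀ k, imageSubobject (part k) ≤ imageSubobject (part (k + 1)) := fun k => by
      refine imageSubobject_le _ (Sigma.desc (fun a =>
        Sigma.ι (fun _ : Lam G (k + 1) => G) (Sum.inl a) ≫ factorThruImageSubobject (part (k + 1))))
        (Sigma.hom_ext _ _ fun a => ?_)
      rw [← cancel_mono (q (n + 1))]
      simp only [Sigma.ι_desc_assoc, Category.assoc, imageSubobject_arrow_comp_assoc]
      rw [hpart, hpart]
      exact ((Sigma.ι_desc _ _).trans rfl).trans (Sigma.ι_desc (s k (n + 1)) a).symm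
    let E : ULift.{v} ℕ →o Subobject (Q (n + 1)) :=
      ⟨fun k => imageSubobject (part k.down),
        fun a b hab => monotone_nat_of_le_succ hmono (ULift.down_le.2 hab)⟩
    have hE : ⨆ k, E k = ⊤ := iSup_eq_top_of_cover _ fun {W} f hf => by
      rw [← cancel_epi (cokernel.π _), comp_zero]
      refine Sigma.hom_ext _ _ fun p => ?_
      obtain ⟨k, a⟩ := p
      have h1 : part k ≫ f = 0 := by
        rw [← imageSubobject_arrow_comp (part k), Category.assoc]
        erw [hf ⟨k⟩]
        exact comp_zero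
      have h2 := congr_arg (fun g => Sigma.ι (fun _ : Lam G k => G) a ≫ g) h1
      simp only [part, Sigma.ι_desc_assoc, Category.assoc, comp_zero] at h2
      rw [comp_zero]
      exact h2
    refine eq_zero_of_directed_cover hG z E hE h fun a => ?_
    rintro ⟨⟨k⟩, b, hb⟩
    let e := factorThruImageSubobject (part k)
    let S : Subobject (∐ fun _ : Lam G k => G) := kernelSubobject e
    let φ : cokernel S.arrow ⟶ (imageSubobject (part k) : C) :=
      cokernel.desc _ e (kernelSubobject_arrow_comp e)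
    haveI : Mono φ := mono_cokernelDesc_kernelSubobject e
    haveI : Epi φ := epi_of_epi_fac (cokernel.π_desc S.arrow e (kernelSubobject_arrow_comp e))
    haveI : IsIso φ := isIso_of_mono_of_epi φ
    let c : HomCode G (Lam G k) := ⟨equivShrink _ S,
      b ≫ inv φ ≫ eqToHom
        (congr_arg (fun S' : Subobject _ => cokernel S'.arrow) (Equiv.symm_apply_apply _ S).symm)⟩
    have hS : S.arrow ≫ Sigma.desc (s k (n + 1)) = 0 := by
      rw [← hpart k, ← imageSubobject_arrow_comp (part k)]
      simp only [S, e, Category.assoc, kernelSubobject_arrow_comp_assoc, zero_comp]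
    have hc : decode M (s k (n + 1)) c = a ≫ z ≫ q (n + 1) := by
      have key : ∀ S' : Subobject (∐ fun _ : Lam G k => G), ∀ h : S = S',
          ∀ h0 : S'.arrow ≫ Sigma.desc (s k (n + 1)) = 0,
          (b ≫ inv φ ≫ eqToHom (congr_arg (fun S' : Subobject _ => cokernel S'.arrow) h)) ≫ cokernel.desc S'.arrow (Sigma.desc (s k (n + 1))) h0
            = a ≫ z ≫ q (n + 1) := by
        rintro _ rfl h0
        have : cokernel.desc S.arrow (Sigma.desc (s k (n + 1))) h0 =
            φ ≫ (imageSubobject (part k)).arrow ≫ q (n + 1) := by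
          apply coequalizer.hom_ext
          simp only [cokernel.π_desc, φ, cokernel.π_desc_assoc, e]
          rw [imageSubobject_arrow_comp_assoc, hpart]
        rw [this]
        simp only [eqToHom_refl, Category.comp_id, Category.assoc, IsIso.inv_hom_id_assoc]
        rw [← Category.assoc a, hb, Category.assoc]
        rfl
      have h1 : (equivShrink _).symm c.1 = S := Equiv.symm_apply_apply _ _
      unfold decode
      rw [dif_pos (by rw [h1]; exact hS)]
      exact key _ h1.symm _
    have hzd : decode M (s k (n + 1)) c ≫ M.d (n + 1) (n + 1 + 1) = 0 := by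
      rw [hc, Category.assoc, Category.assoc, ← hd, reassoc_of% hz, zero_comp, comp_zero]
    obtain ⟨hs1, hs2⟩ := (exists_pre hG M hM n (decode M (s k (n + 1)) c)).choose_spec.choose_spec hzd
    refine hs2 (a ≫ h) fun j => ?_
    rw [← Category.assoc]
    refine hT _ ⟨Sigma.ι (fun _ : LamInf G => G) (⟨k + 1, Sum.inr (Sum.inr (c, j))⟩ : LamInf G) ≫
      proj n, ?_⟩
    rw [← cancel_mono (q (n + 1))]
    simp only [Category.assoc, hd]
    rw [reassoc_of% (hproj n)]
    simp only [dsc, Sigma.ι_desc_assoc]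
    rw [← hc]
    exact (hs1 j).symm
  let I : SmallIdx G := ⟨K, d, hshape, hdd, hac⟩
  refine ⟨I, { f := q, comm' := fun i j _ => (hd i j).symm }, ?_, fun he => hx ?_⟩
  · exact HomologicalComplex.mono_of_mono_f _ hq
  · have h0 : q m = 0 := HomologicalComplex.congr_hom he m
    have h1 : Sigma.ι (fun _ : LamInf G => G) (⟨0, PUnit.unit⟩ : LamInf G) ≫ dsc m = 0 := by
      rw [← hproj, h0, comp_zero, comp_zero]
    simpa [dsc, s, gen] using h1

end

end Groth.Agent.KInj
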