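import Groth.Agent.KInj.Colim
import Groth.Agent.KInj.Small

/-!
# Extensions of acyclic complexes by a complex orthogonal to the small acyclic complexes
-/

set_option linter.style.haveILetI false

universe v u

open CategoryTheory Limits

namespace Groth.Agent.KInj

variable {C : Type u} [Category.{v} C] [Abelian C]

theorem isZero_of_X {K : CochainComplex C ℤ} (h : ∀ n, IsZero (K.X n)) : IsZero K :=
  (IsZero.iff_id_eq_zero _).2 (HomologicalComplex.hom_ext _ _ fun n => (h n).eq_of_src _ _)

theorem quasiIso_of_acyclic {K L : CochainComplex C ℤ} (f : K ⟶ L) (hK : K.Acyclic)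
    (hL : L.Acyclic) : QuasiIso f := ⟨fun i => by
  rw [quasiIsoAt_iff_isIso_homologyMap]
  exact ⟨0, (hK i).isZero_homology.eq_of_src _ _, (hL i).isZero_homology.eq_of_src _ _⟩⟩

variable [IsGrothendieckAbelian.{v} C]

/-- `J` has only split extensions by members of the small family of acyclic complexes. -/
def Orth (G : C) (J : CochainComplex C ℤ) : Prop :=
  ∀ ⦃P : CochainComplex C ℤ⦄ (I : SmallIdx G) (j : J ⟶ P) (q : P ⟶ I.cx) (w : j ≫ q = 0),
    (ShortComplex.mk j q w).ShortExact → ∃ σ : I.cx ⟶ P, σ ≫ q = 𝟙 _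

variable {G : C} (hG : IsSeparator G) {J : CochainComplex C ℤ} (hJ : Orth G J)

include hG hJ in
theorem exists_section {S : ShortComplex (CochainComplex C ℤ)} (hS : S.ShortExact)
    (e : J ≅ S.X₁) (hM : S.X₃.Acyclic) : ∃ s : S.X₃ ⟶ S.X₂, s ≫ S.g = 𝟙 _ := by
  haveI := hS.mono_f
  haveI := hS.epi_g
  let P : Subobject S.X₂ → Prop := fun A =>
    HomologicalComplex.Acyclic (A : CochainComplex C ℤ) ∧ Mono (A.arrow ≫ S.g)
  have hbot : P ⊥ := by
    have hz : IsZero ((⊥ : Subobject S.X₂) : CochainComplex C ℤ) :=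
      (isZero_zero _).of_iso Subobject.botCoeIsoZero
    exact ⟨fun i => (HomologicalComplex.exactAt_iff_isZero_homology _ _).2
      (((HomologicalComplex.homologyFunctor C _ i).map_isZero hz)),
      ⟨fun _ _ _ => hz.eq_of_tgt _ _⟩⟩
  -- Zorn's lemma
  obtain ⟨A, -, hA⟩ := zorn_le_nonempty₀ {A | P A} (fun c hc hchain y hy => by
    let T := ULift.{v} (Shrink.{v} c)
    let val : T → Subobject S.X₂ := fun t => ((equivShrink c).symm t.down).1
    letI : Preorder T := Preorder.lift val
    haveI : Nonempty T := ⟨⟨equivShrink c ⟨y, hy⟩⟩⟩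
    haveI : IsDirectedOrder T := ⟨fun a b => by
      rcases hchain.total ((equivShrink c).symm a.down).2 ((equivShrink c).symm b.down).2 with h | h
      · exact ⟨b, h, le_refl _⟩
      · exact ⟨a, le_refl _, h⟩⟩
    haveI : IsFiltered T := isFiltered_of_directed_le_nonempty T
    let E : T →o Subobject S.X₂ := ⟨val, fun _ _ h => h⟩
    have hE : ∀ t, P (E t) := fun t => hc ((equivShrink c).symm t.down).2
    refine ⟨⨆ t, E t, ⟨?_, ?_⟩, fun z hz => ?_⟩
    · exact acyclic_of_isColimit (isColimitISupCocone E) fun t => (hE t).1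
    · let φ : subFunctor E ⟶ (Functor.const T).obj S.X₃ :=
        { app := fun t => (E t).arrow ≫ S.g
          naturality := fun a b f => by
            refine Eq.trans ?_ (Category.comp_id _).symm
            refine (Category.assoc _ _ _).symm.trans ?_
            exact congr_arg (· ≫ S.g) (MonoOver.w (Subobject.representative.map
              (E.monotone.functor.map f))) }
      haveI : ∀ t, Mono (φ.app t) := fun t => (hE t).2
      haveI := NatTrans.mono_of_mono_app φ
      haveI := IsFiltered.isConnected T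
      refine colim.map_mono' φ (isColimitISupCocone E) (isColimitConstCocone T S.X₃) _ fun t => ?_
      refine Eq.trans ?_ (Category.comp_id _).symm
      refine (Category.assoc _ _ _).symm.trans ?_
      exact congr_arg (· ≫ S.g) (Subobject.ofLE_arrow _)
    · have : val ⟨equivShrink c ⟨z, hz⟩⟩ = z := by simp [val]
      exact this ▸ le_iSup E ⟨equivShrink c ⟨z, hz⟩⟩) ⊥ hbot
  obtain ⟨⟨hAac, hAmono⟩, hmax⟩ := hA
  let f := A.arrow ≫ S.g
  haveI : Mono f := hAmono
  have hR : (cokernel f).Acyclic :=
    ShortComplex.ShortExact.acyclic_X₃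
      (S := ShortComplex.mk f (cokernel.π f) (cokernel.condition f))
      { exact := ShortComplex.exact_cokernel f } (quasiIso_of_acyclic f hAac hM)
  by_cases hz : IsZero (cokernel f)
  · haveI : Epi f := Preadditive.epi_of_isZero_cokernel f hz
    haveI : IsIso f := isIso_of_mono_of_epi f
    exact ⟨inv f ≫ A.arrow, by rw [Category.assoc]; exact IsIso.inv_hom_id f⟩
  exfalso
  obtain ⟨m, hm⟩ : ∃ m, ¬ IsZero ((cokernel f).X m) := by
    by_contra hh
    push Not at hh
    exact hz (isZero_of_X hh)
  obtain ⟨I, ι, hι, hι0⟩ := exists_small_acyclic hG (cokernel f) hR hm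
  haveI := hι
  let j : J ⟶ cokernel A.arrow := e.hom ≫ S.f ≫ cokernel.π A.arrow
  let pb : cokernel A.arrow ⟶ cokernel f := cokernel.desc A.arrow (S.g ≫ cokernel.π f)
    (by rw [← Category.assoc]; exact cokernel.condition f)
  have hjpb : j ≫ pb = 0 := by simp [j, pb]
  haveI : Epi pb := epi_of_epi_fac
    (cokernel.π_desc A.arrow (S.g ≫ cokernel.π f)
      (by rw [← Category.assoc]; exact cokernel.condition f))
  -- lifting through a monomorphism into the cokernel of `A`
  have hA0 : ∀ {T : CochainComplex C ℤ} (x : T ⟶ S.X₂),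
      x ≫ cokernel.π A.arrow = 0 → x ≫ S.g = 0 → x = 0 := by
    intro T x h1 h2
    let t := Abelian.monoLift A.arrow x h1
    have ht : t ≫ A.arrow = x := Abelian.monoLift_comp _ _ _
    have : t = 0 := by
      rw [← cancel_mono f, zero_comp]
      show t ≫ A.arrow ≫ S.g = 0
      rw [reassoc_of% ht, h2]
    rw [← ht, this, zero_comp]
  haveI : Mono j := Preadditive.mono_of_cancel_zero _ fun x hx => by
    have : (x ≫ e.hom ≫ S.f) = 0 := hA0 _ (by simpa [j] using hx) (by simp)
    rw [← cancel_mono (e.hom ≫ S.f), this, zero_comp]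
  have hseq : (ShortComplex.mk j pb hjpb).ShortExact :=
    { exact := ShortComplex.exact_of_g_is_cokernel _ (CokernelCofork.IsColimit.ofπ' _ _
        fun {W} h (hh : j ≫ h = 0) => by
          have h1 : S.f ≫ cokernel.π A.arrow ≫ h = 0 := by
            rw [← cancel_epi e.hom, comp_zero]
            simpa [j] using hh
          let h₁ := hS.exact.desc (cokernel.π A.arrow ≫ h) h1
          have hh₁ : S.g ≫ h₁ = cokernel.π A.arrow ≫ h := hS.exact.g_desc _ _
          have h2 : f ≫ h₁ = 0 := by
            show (A.arrow ≫ S.g) ≫ h₁ = 0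
            rw [Category.assoc, hh₁, cokernel.condition_assoc, zero_comp]
          exact ⟨cokernel.desc f h₁ h2, by
            rw [← cancel_epi (cokernel.π A.arrow)]
            simp [pb, hh₁]⟩) }
  let j' : J ⟶ pullback pb ι := pullback.lift j 0 (by simp [hjpb])
  haveI : Mono j' := mono_of_mono_fac (pullback.lift_fst j 0 (by simp [hjpb]))
  have w' : j' ≫ pullback.snd pb ι = 0 := pullback.lift_snd _ _ _
  have hseq' : (ShortComplex.mk j' (pullback.snd pb ι) w').ShortExact :=
    { exact := ShortComplex.exact_of_f_is_kernel _ (KernelFork.IsLimit.ofι' _ _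
        fun {W} x (hx : x ≫ pullback.snd pb ι = 0) =>
          have h1 : (x ≫ pullback.fst pb ι) ≫ pb = 0 := by
            rw [Category.assoc, pullback.condition, reassoc_of% hx, zero_comp]
          ⟨hseq.exact.lift _ h1, pullback.hom_ext
            (by rw [Category.assoc, pullback.lift_fst]; exact hseq.exact.lift_f _ h1)
            (by rw [Category.assoc, w', comp_zero, hx])⟩) }
  obtain ⟨σ, hσ⟩ := hJ I j' _ w' hseq'
  let τ := σ ≫ pullback.fst pb ι
  have hτ : τ ≫ pb = ι := by
    simp only [τ, Category.assoc, pullback.condition, reassoc_of% hσ]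
  haveI : Mono τ := mono_of_mono_fac hτ
  let π₂ := pullback.fst (cokernel.π A.arrow) τ
  let q₂ := pullback.snd (cokernel.π A.arrow) τ
  have w₂ : A.arrow ≫ cokernel.π A.arrow = 0 ≫ τ := by simp
  let a := pullback.lift A.arrow 0 w₂
  have wa : a ≫ q₂ = 0 := pullback.lift_snd _ _ _
  haveI : Mono a := mono_of_mono_fac (pullback.lift_fst A.arrow 0 w₂)
  have hseq₂ : (ShortComplex.mk a q₂ wa).ShortExact :=
    { exact := ShortComplex.exact_of_f_is_kernel _ (KernelFork.IsLimit.ofι' _ _
        fun {W} x (hx : x ≫ q₂ = 0) =>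
          have h1 : (x ≫ π₂) ≫ cokernel.π A.arrow = 0 := by
            rw [Category.assoc, pullback.condition, reassoc_of% hx, zero_comp]
          ⟨Abelian.monoLift A.arrow _ h1, pullback.hom_ext
            (by rw [Category.assoc, pullback.lift_fst]; exact Abelian.monoLift_comp _ _ h1)
            (by rw [Category.assoc, wa, comp_zero]; exact hx.symm)⟩) }
  have hac₂ : (pullback (cokernel.π A.arrow) τ).Acyclic := hseq₂.acyclic_X₂ hAac I.acyclic
  have hmono₂ : Mono (π₂ ≫ S.g) := Preadditive.mono_of_cancel_zero _ fun x hx => by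
    have h1 : x ≫ q₂ = 0 := by
      apply (cancel_mono ι).1
      refine ((congr_arg (fun t => (x ≫ q₂) ≫ t) hτ).symm).trans ?_
      rw [zero_comp, Category.assoc, ← pullback.condition_assoc]
      show x ≫ π₂ ≫ cokernel.π A.arrow ≫ pb = 0
      simp only [pb, cokernel.π_desc]
      rw [reassoc_of% hx, zero_comp]
    have h2 : x ≫ π₂ = 0 := hA0 _ (by
      rw [Category.assoc, pullback.condition, reassoc_of% h1, zero_comp])
      (by rw [Category.assoc]; exact hx)
    rw [← cancel_mono π₂, h2, zero_comp]
  have hle : A ≤ Subobject.mk π₂ := Subobject.le_mk_of_comm a (pullback.lift_fst _ _ _)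
  have hP : P (Subobject.mk π₂) := by
    refine ⟨fun i => (hac₂ i).of_iso (Subobject.underlyingIso π₂).symm, ?_⟩
    rw [← Subobject.underlyingIso_hom_comp_eq_mk, Category.assoc]
    infer_instance
  have hge := hmax hP hle
  apply hι0
  have h1 : π₂ ≫ cokernel.π A.arrow = 0 := by
    rw [← Subobject.underlyingIso_arrow π₂, ← Subobject.ofLE_arrow hge, Category.assoc,
      Category.assoc, cokernel.condition, comp_zero, comp_zero]
  have h2 : τ = 0 := by
    rw [← cancel_epi q₂, comp_zero, ← pullback.condition]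
    exact h1
  rw [← hτ, h2, zero_comp]

end Groth.Agent.KInj
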