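import Mathlib

/-!
# Covering lemmas in Grothendieck abelian categories
-/

set_option linter.style.haveILetI false

universe v u

open CategoryTheory Limits

namespace Groth.Agent.KInj

variable {C : Type u} [Category.{v} C] [Abelian C] {G : C} (hG : IsSeparator G)

include hG in
theorem eq_zero_of_cover {A B : C} (h : A ⟶ B) (hh : ∀ a : G ⟶ A, a ≫ h = 0) : h = 0 :=
  hG.def _ _ fun a => by rw [hh a, comp_zero]

section Rep

include hG in
theorem exists_cover_family {A B : C} (p : A ⟶ B) [Epi p] [Small.{v} (Subobject B)] :
    ∃ g : Shrink.{v} (Subobject B) → (G ⟶ A),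
      ∀ {W : C} (h : B ⟶ W), (∀ j, g j ≫ p ≫ h = 0) → h = 0 := by
  classical
  refine ⟨fun j => if hj : ∃ a : G ⟶ A, imageSubobject (a ≫ p) = (equivShrink _).symm j
    then hj.choose else 0, fun {W} h hh => ?_⟩
  rw [← cancel_epi p, comp_zero]
  refine eq_zero_of_cover hG _ fun a => ?_
  have hex : ∃ b : G ⟶ A, imageSubobject (b ≫ p) =
      (equivShrink _).symm (equivShrink _ (imageSubobject (a ≫ p))) := ⟨a, by simp⟩
  have h0 := hh (equivShrink _ (imageSubobject (a ≫ p)))
  simp only [dif_pos hex] at h0
  have h1 : (imageSubobject (hex.choose ≫ p)).arrow ≫ h = 0 := by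
    rw [← cancel_epi (factorThruImageSubobject (hex.choose ≫ p)),
      imageSubobject_arrow_comp_assoc, comp_zero, Category.assoc, h0]
  have heq : imageSubobject (hex.choose ≫ p) = imageSubobject (a ≫ p) := by
    simpa using hex.choose_spec
  rw [heq] at h1
  calc a ≫ p ≫ h = factorThruImageSubobject (a ≫ p) ≫ (imageSubobject (a ≫ p)).arrow ≫ h := by
        simp
    _ = 0 := by rw [h1, comp_zero]

end Rep

variable [IsGrothendieckAbelian.{v} C]

/-- The arrows of a directed family of subobjects, as a functor to `C`. -/
noncomputable abbrev subFunctor {X : C} {J : Type v} [Preorder J] (E : J →o Subobject X) : J ⥤ C :=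
  E.monotone.functor ⋙ Subobject.representative ⋙ MonoOver.forget X ⋙ Over.forget X

/-- The cocone of a directed family of subobjects. -/
@[simps]
noncomputable def subCocone {X : C} {J : Type v} [Preorder J] (E : J →o Subobject X) :
    Cocone (subFunctor E) where
  pt := X
  ι := { app := fun j => (E j).arrow, naturality := fun _ _ f =>
    (MonoOver.w (Subobject.representative.map (E.monotone.functor.map f))).trans (Category.comp_id _).symm }

theorem iSup_eq_top_of_cover {X : C} {J : Type v} (E : J → Subobject X)
    (hE : ∀ {W : C} (h : X ⟶ W), (∀ j, (E j).arrow ≫ h = 0) → h = 0) : ⨆ j, E j = ⊤ := by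
  have hle : ∀ j, E j ≤ ⨆ j, E j := le_iSup E
  have : Epi (⨆ j, E j).arrow := Preadditive.epi_of_cancel_zero _ fun h hh => hE h fun j => by
    rw [← Subobject.ofLE_arrow (hle j), Category.assoc, hh, comp_zero]
  haveI := isIso_of_mono_of_epi (⨆ j, E j).arrow
  exact Subobject.eq_top_of_isIso_arrow _

/-- A directed family of subobjects covering `X` has colimit `X`. -/
noncomputable def isColimitSubCocone {X : C} {J : Type v} [Preorder J] [Nonempty J]
    [IsDirectedOrder J] (E : J →o Subobject X) (hE : ⨆ j, E j = ⊤) :
    IsColimit (subCocone E) := by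
  haveI : IsFiltered J := isFiltered_of_directed_le_nonempty J
  let F : J ⥤ MonoOver X := E.monotone.functor ⋙ Subobject.representative
  let c : Cocone (F ⋙ MonoOver.forget X) :=
    { pt := Over.mk (𝟙 X)
      ι := { app := fun j => Over.homMk (E j).arrow (Category.comp_id _)
             naturality := fun _ _ f => Over.OverMorphism.ext ((MonoOver.w (Subobject.representative.map (E.monotone.functor.map f))).trans (Category.comp_id _).symm) } }
  haveI : Mono c.pt.hom := inferInstanceAs (Mono (𝟙 X))
  have h : Subobject.mk c.pt.hom = ⨆ j, Subobject.mk (F.obj j).obj.hom := by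
    have : ∀ j, Subobject.mk (F.obj j).obj.hom = E j := fun j => Subobject.mk_arrow _
    simp only [this, hE]
    haveI : IsIso c.pt.hom := inferInstanceAs (IsIso (𝟙 X))
    exact Subobject.mk_eq_top_of_isIso _
  exact IsGrothendieckAbelian.isColimitMapCoconeOfSubobjectMkEqISup F c h

/-- The cocone of a directed family of subobjects with point its supremum. -/
noncomputable def iSupCocone {X : C} {J : Type v} [Preorder J] (E : J →o Subobject X) :
    Cocone (subFunctor E) where
  pt := ((⨆ j, E j : Subobject X) : C)
  ι := { app := fun j => Subobject.ofLE (E j) _ (le_iSup E j)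
         naturality := fun _ _ f => by
          rw [← cancel_mono (⨆ j, E j : Subobject X).arrow, Category.assoc, Category.assoc]
          erw [Subobject.ofLE_arrow, Category.id_comp, Subobject.ofLE_arrow]
          exact (Subobject.ofLE_arrow _).symm }

/-- The supremum of a directed family of subobjects is its colimit. -/
noncomputable def isColimitISupCocone {X : C} {J : Type v} [Preorder J] [Nonempty J]
    [IsDirectedOrder J] (E : J →o Subobject X) : IsColimit (iSupCocone E) := by
  haveI : IsFiltered J := isFiltered_of_directed_le_nonempty J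
  let F : J ⥤ MonoOver X := E.monotone.functor ⋙ Subobject.representative
  let c : Cocone (F ⋙ MonoOver.forget X) :=
    { pt := Over.mk (⨆ j, E j : Subobject X).arrow
      ι := { app := fun j => Over.homMk ((iSupCocone E).ι.app j) (Subobject.ofLE_arrow _)
             naturality := fun _ _ f => Over.OverMorphism.ext ((iSupCocone E).ι.naturality f) } }
  haveI : Mono c.pt.hom := inferInstanceAs (Mono (⨆ j, E j : Subobject X).arrow)
  have h : Subobject.mk c.pt.hom = ⨆ j, Subobject.mk (F.obj j).obj.hom := by
    have : ∀ j, Subobject.mk (F.obj j).obj.hom = E j := fun j => Subobject.mk_arrow _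
    simp only [this]
    exact Subobject.mk_arrow _
  exact IsGrothendieckAbelian.isColimitMapCoconeOfSubobjectMkEqISup F c h

include hG in
theorem eq_zero_of_colimit_cover {J : Type v} [SmallCategory J] [IsFiltered J] {Y : J ⥤ C}
    {c : Cocone Y} (hc : IsColimit c) [∀ j, Mono (c.ι.app j)] {A : C} (z : A ⟶ c.pt) {W : C}
    (h : A ⟶ W)
    (hh : ∀ a : G ⟶ A, (∃ (j : J) (b : G ⟶ Y.obj j), a ≫ z = b ≫ c.ι.app j) → a ≫ h = 0) :
    h = 0 := by
  haveI : Mono c.ι := NatTrans.mono_of_mono_app _
  haveI := IsGrothendieckAbelian.IsPresentable.surjectivity.epi_f hc z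
  rw [← cancel_epi (IsGrothendieckAbelian.IsPresentable.surjectivity.f (c := c) z), comp_zero]
  refine colimit.hom_ext fun j => ?_
  rw [comp_zero, ← Category.assoc, IsGrothendieckAbelian.IsPresentable.surjectivity.hf]
  refine eq_zero_of_cover hG _ fun a => ?_
  rw [← Category.assoc]
  refine hh _ ⟨j, a ≫ (pullback.fst c.ι ((Functor.const J).map z)).app j, ?_⟩
  have := congr_arg (fun t => a ≫ NatTrans.app t j)
    (pullback.condition (f := c.ι) (g := (Functor.const J).map z))
  simpa using this.symm

include hG in
/-- If a directed family of subobjects covers `X`, then the maps from a separator to `A` whose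
composite with `z : A ⟶ X` factors through some member of the family cover `A`. -/
theorem eq_zero_of_directed_cover {X A : C} (z : A ⟶ X) {J : Type v} [Preorder J] [Nonempty J]
    [IsDirectedOrder J] (E : J →o Subobject X) (hE : ⨆ j, E j = ⊤) {W : C} (h : A ⟶ W)
    (hh : ∀ a : G ⟶ A, (∃ (j : J) (b : G ⟶ (E j : C)), a ≫ z = b ≫ (E j).arrow) → a ≫ h = 0) :
    h = 0 := by
  haveI : IsFiltered J := isFiltered_of_directed_le_nonempty J
  haveI : ∀ j, Mono ((subCocone E).ι.app j) := fun j => inferInstanceAs (Mono (E j).arrow)
  exact eq_zero_of_colimit_cover hG (c := subCocone E) (isColimitSubCocone E hE) z h hh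

end Groth.Agent.KInj
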